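import Groth.Agent.EssFPDescent.Act
import Groth.Agent.FlatModel.Local
import Groth.Agent.LocalCrit.Flatness

/-!
# The module `C₀ ⊗ A` over `T₀ ⊗ A` and flatness of its localizations
-/

set_option autoImplicit false

universe u

open TensorProduct
attribute [local instance] Algebra.TensorProduct.rightAlgebra

noncomputable section

namespace Groth.Agent.EssFPDescent

variable {R₀ : Type u} [CommRing R₀] (T₀ : Type u) [CommRing T₀] [Algebra R₀ T₀]
  (C₀ : Type u) [AddCommGroup C₀] [Module R₀ C₀] [Module T₀ C₀] [IsScalarTower R₀ T₀ C₀]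
  (A : Type u) [CommRing A] [Algebra R₀ A]

/-- `C₀ ⊗ A` as a module over `T₀ ⊗ A`. -/
def CT (_T₀ : Type u) (C₀ : Type u) [AddCommGroup C₀] [Module R₀ C₀] (A : Type u) [CommRing A] [Algebra R₀ A] : Type u :=
  C₀ ⊗[R₀] A

instance : AddCommGroup (CT (R₀ := R₀) T₀ C₀ A) := inferInstanceAs (AddCommGroup (C₀ ⊗[R₀] A))

instance : Module (T₀ ⊗[R₀] A) (CT (R₀ := R₀) T₀ C₀ A) :=
  moduleAct T₀ C₀ (A := A) (N := A)

instance : Module A (CT (R₀ := R₀) T₀ C₀ A) :=
  Module.compHom (CT (R₀ := R₀) T₀ C₀ A) (algebraMap A (T₀ ⊗[R₀] A))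

instance : IsScalarTower A (T₀ ⊗[R₀] A) (CT (R₀ := R₀) T₀ C₀ A) :=
  ⟨fun a s x => by rw [Algebra.smul_def, mul_smul]; rfl⟩


variable {A}

/-- `c ⊗ 1`. -/
def emb : C₀ →+ CT (R₀ := R₀) T₀ C₀ A where
  toFun c := (c ⊗ₜ[R₀] (1 : A) : C₀ ⊗[R₀] A)
  map_zero' := TensorProduct.zero_tmul _ _
  map_add' a b := TensorProduct.add_tmul a b _

/-- An element of `C₀ ⊗ A` as an element of `CT`. -/
def toCT (x : C₀ ⊗[R₀] A) : CT (R₀ := R₀) T₀ C₀ A := x

theorem smul_toCT (a : A) (c : C₀) (b : A) :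
    a • toCT T₀ C₀ (c ⊗ₜ[R₀] b) = toCT T₀ C₀ (c ⊗ₜ[R₀] (a * b)) := by
  show ρ T₀ C₀ A A ((1 : T₀) ⊗ₜ[R₀] a) (c ⊗ₜ[R₀] b) = _
  rw [ρ_tmul, one_smul, smul_eq_mul]
  rfl

theorem smul_emb (a : A) (c : C₀) : a • emb T₀ C₀ (A := A) c = toCT T₀ C₀ (c ⊗ₜ[R₀] a) := by
  show a • toCT T₀ C₀ (c ⊗ₜ[R₀] (1 : A)) = _
  rw [smul_toCT, mul_one]

variable (J : Ideal A)

/-- `C₀ ⊗ J → CT ⊗ J`. -/
def eTo : C₀ ⊗[R₀] J →+ CT (R₀ := R₀) T₀ C₀ A ⊗[A] J :=
  TensorProduct.liftAddHom
    { toFun := fun c => { toFun := fun x => emb T₀ C₀ c ⊗ₜ[A] x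
                          map_zero' := TensorProduct.tmul_zero _ _
                          map_add' := TensorProduct.tmul_add _ }
      map_zero' := AddMonoidHom.ext fun x => by simp
      map_add' := fun c c' => AddMonoidHom.ext fun x => by simp [TensorProduct.add_tmul] }
    fun r c x => by
      show emb T₀ C₀ (r • c) ⊗ₜ[A] x = emb T₀ C₀ c ⊗ₜ[A] (r • x)
      rw [show r • x = algebraMap R₀ A r • x from (algebraMap_smul A r x).symm, ← TensorProduct.smul_tmul, smul_emb]
      congr 1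
      show (r • c) ⊗ₜ[R₀] (1 : A) = c ⊗ₜ[R₀] algebraMap R₀ A r
      rw [TensorProduct.smul_tmul, Algebra.algebraMap_eq_smul_one]

@[simp] theorem eTo_tmul (c : C₀) (x : J) : eTo T₀ C₀ J (c ⊗ₜ[R₀] x) = emb T₀ C₀ c ⊗ₜ[A] x := rfl

/-- `a ↦ a x`. -/
def mulElt (x : J) : A →ₗ[R₀] J where
  toFun a := a • x
  map_add' a b := add_smul a b x
  map_smul' r a := by rw [RingHom.id_apply, smul_assoc]

/-- `CT ⊗ J → C₀ ⊗ J`. -/
def eInv : CT (R₀ := R₀) T₀ C₀ A ⊗[A] J →+ C₀ ⊗[R₀] J :=
  TensorProduct.liftAddHom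
    { toFun := fun z => { toFun := fun x => (mulElt J x).lTensor C₀ (z : C₀ ⊗[R₀] A)
                          map_zero' := by
                            rw [show mulElt (R₀ := R₀) J 0 = 0 from LinearMap.ext fun a => smul_zero a]
                            simp
                          map_add' := fun x y => by
                            rw [show mulElt (R₀ := R₀) J (x + y) = mulElt J x + mulElt J y from
                              LinearMap.ext fun a => smul_add a x y, LinearMap.lTensor_add, LinearMap.add_apply] }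
      map_zero' := AddMonoidHom.ext fun x => map_zero ((mulElt (R₀ := R₀) J x).lTensor C₀)
      map_add' := fun z z' => AddMonoidHom.ext fun x => map_add ((mulElt (R₀ := R₀) J x).lTensor C₀) z z' }
    fun a z x => by
      show (mulElt J x).lTensor C₀ (a • z : CT (R₀ := R₀) T₀ C₀ A) = (mulElt J (a • x)).lTensor C₀ z
      revert z
      suffices hh : ∀ z₀ : C₀ ⊗[R₀] A, (mulElt J x).lTensor C₀ (a • toCT T₀ C₀ z₀) = (mulElt J (a • x)).lTensor C₀ z₀ from
        fun z => hh z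
      intro z
      induction z using TensorProduct.induction_on with
      | zero =>
        rw [show a • toCT T₀ C₀ (0 : C₀ ⊗[R₀] A) = toCT T₀ C₀ (0 : C₀ ⊗[R₀] A) from
          smul_zero (A := CT (R₀ := R₀) T₀ C₀ A) a]
        exact (map_zero _).trans (map_zero _).symm
      | add z z' hz hz' =>
        rw [map_add, ← hz, ← hz', ← map_add]
        exact congrArg _ (smul_add a (toCT T₀ C₀ z) (toCT T₀ C₀ z'))
      | tmul c b =>
        rw [LinearMap.lTensor_tmul]
        refine (congrArg _ (smul_toCT T₀ C₀ a c b)).trans ?_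
        show c ⊗ₜ[R₀] ((a * b) • x) = c ⊗ₜ[R₀] (b • a • x)
        rw [mul_comm, mul_smul]

theorem eInv_eTo (y : C₀ ⊗[R₀] J) : eInv T₀ C₀ J (eTo T₀ C₀ J y) = y := by
  induction y using TensorProduct.induction_on with
  | zero => rw [map_zero, map_zero]
  | add a b ha hb => rw [map_add, map_add, ha, hb]
  | tmul c x =>
    show c ⊗ₜ[R₀] ((1 : A) • x) = c ⊗ₜ[R₀] x
    rw [one_smul]

theorem eTo_injective : Function.Injective (eTo (R₀ := R₀) T₀ C₀ J) :=
  Function.LeftInverse.injective (eInv_eTo T₀ C₀ J)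

theorem eTo_surjective : Function.Surjective (eTo (R₀ := R₀) T₀ C₀ J) := by
  intro y
  induction y using TensorProduct.induction_on with
  | zero => exact ⟨0, map_zero _⟩
  | add a b ha hb => obtain ⟨a', rfl⟩ := ha; obtain ⟨b', rfl⟩ := hb; exact ⟨a' + b', map_add _ _ _⟩
  | tmul z x =>
    change C₀ ⊗[R₀] A at z
    induction z using TensorProduct.induction_on with
    | zero => exact ⟨0, (map_zero _).trans (TensorProduct.zero_tmul (CT (R₀ := R₀) T₀ C₀ A) x).symm⟩
    | add a b ha hb =>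
      obtain ⟨a', ha'⟩ := ha; obtain ⟨b', hb'⟩ := hb
      refine ⟨a' + b', ?_⟩
      rw [map_add, ha', hb']
      exact (TensorProduct.add_tmul (toCT T₀ C₀ a) (toCT T₀ C₀ b) x).symm
    | tmul c a =>
      refine ⟨c ⊗ₜ (a • x), ?_⟩
      rw [eTo_tmul, ← TensorProduct.smul_tmul, smul_emb]
      rfl

theorem eTo_ρ (s : T₀ ⊗[R₀] A) (y : C₀ ⊗[R₀] J) : eTo T₀ C₀ J (ρ T₀ C₀ A J s y) = s • eTo T₀ C₀ J y := by
  induction s using TensorProduct.induction_on with
  | zero => simp only [map_zero, LinearMap.zero_apply, zero_smul]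
  | add a b ha hb => simp only [map_add, LinearMap.add_apply, add_smul, ha, hb]
  | tmul t a =>
    induction y using TensorProduct.induction_on with
    | zero => simp only [map_zero, smul_zero]
    | add a b ha hb => simp only [map_add, smul_add, ha, hb]
    | tmul c x =>
      rw [ρ_tmul, eTo_tmul, eTo_tmul, ← TensorProduct.smul_tmul, smul_emb, TensorProduct.smul_tmul']
      congr 1
      show _ = ρ T₀ C₀ A A (t ⊗ₜ[R₀] a) (c ⊗ₜ[R₀] (1 : A))
      rw [ρ_tmul, smul_eq_mul, mul_one]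
      rfl

theorem rid_eTo (y : C₀ ⊗[R₀] J) :
    TensorProduct.rid A _ ((J.subtype).lTensor (CT (R₀ := R₀) T₀ C₀ A) (eTo T₀ C₀ J y)) =
      toCT T₀ C₀ ((incl R₀ J).lTensor C₀ y) := by
  induction y using TensorProduct.induction_on with
  | zero => simp only [map_zero]; rfl
  | add a b ha hb => simp only [map_add, ha, hb]; rfl
  | tmul c x =>
    rw [eTo_tmul, LinearMap.lTensor_tmul, TensorProduct.rid_tmul, smul_emb]
    rfl

theorem lTensor_eTo_eq_zero_iff (y : C₀ ⊗[R₀] J) :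
    (J.subtype).lTensor (CT (R₀ := R₀) T₀ C₀ A) (eTo T₀ C₀ J y) = 0 ↔ (incl R₀ J).lTensor C₀ y = 0 := by
  rw [← (TensorProduct.rid A (CT (R₀ := R₀) T₀ C₀ A)).map_eq_zero_iff, rid_eTo]
  rfl

variable (W : Submonoid (T₀ ⊗[R₀] A))

/-- `Killed` in terms of the module `CT`. -/
theorem killed_iff : Killed T₀ C₀ J W ↔
    ∀ y : CT (R₀ := R₀) T₀ C₀ A ⊗[A] J, (J.subtype).lTensor _ y = 0 → ∃ s ∈ W, s • y = 0 := by
  constructor
  · intro h y hy
    obtain ⟨y, rfl⟩ := eTo_surjective T₀ C₀ J y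
    obtain ⟨s, hs, hsy⟩ := h y ((lTensor_eTo_eq_zero_iff T₀ C₀ J y).1 hy)
    exact ⟨s, hs, by rw [← eTo_ρ, hsy, map_zero]⟩
  · intro h y hy
    obtain ⟨s, hs, hsy⟩ := h _ ((lTensor_eTo_eq_zero_iff T₀ C₀ J y).2 hy)
    exact ⟨s, hs, eTo_injective T₀ C₀ J (by rw [eTo_ρ, hsy, map_zero])⟩

/-- Flatness of the localisation in terms of `Killed`. -/
theorem flat_iff_killed : Module.Flat A (LocalizedModule W (CT (R₀ := R₀) T₀ C₀ A)) ↔
    ∀ J : Ideal A, Killed T₀ C₀ J W := by
  rw [FlatModel.flat_localized_iff W (LocalizedModule.mkLinearMap W (CT (R₀ := R₀) T₀ C₀ A))]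
  exact forall_congr' fun J => (killed_iff T₀ C₀ J W).symm

omit W in
/-- One ideal at a time. -/
theorem rTensor_injective_of_killed {S : Type u} [CommRing S] [Algebra A S] (W : Submonoid S)
    {M N : Type u} [AddCommGroup M] [Module A M] [Module S M] [IsScalarTower A S M]
    [AddCommGroup N] [Module A N] [Module S N] [IsScalarTower A S N] (f : M →ₗ[S] N) [IsLocalizedModule W f]
    (h : ∀ y : M ⊗[A] J, J.subtype.lTensor M y = 0 → ∃ s ∈ W, s • y = 0) :
    Function.Injective (J.subtype.rTensor N) := by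
  rw [← LinearMap.lTensor_inj_iff_rTensor_inj, injective_iff_map_eq_zero]
  let φ : M ⊗[A] J →ₗ[S] N ⊗[A] J := AlgebraTensorModule.rTensor A J f
  let ψ : M ⊗[A] A →ₗ[S] N ⊗[A] A := AlgebraTensorModule.rTensor A A f
  have hcomm : ∀ y, J.subtype.lTensor N (φ y) = ψ (J.subtype.lTensor M y) := by
    intro y
    induction y using TensorProduct.induction_on with
    | zero => simp
    | tmul m j => simp [φ, ψ]
    | add y z hy hz => simp only [map_add, hy, hz]
  intro z hz
  obtain ⟨⟨y, s⟩, hys⟩ := IsLocalizedModule.surj W φ z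
  have h1 : ψ (J.subtype.lTensor M y) = 0 := by
    rw [← hcomm, ← hys, Submonoid.smul_def,
      show J.subtype.lTensor N ((s : S) • z) = (s : S) • J.subtype.lTensor N z from
        (AlgebraTensorModule.lTensor S N J.subtype).map_smul _ _, hz, smul_zero]
  obtain ⟨t, ht⟩ := (IsLocalizedModule.eq_zero_iff W ψ).1 h1
  obtain ⟨r, hr, hry⟩ := h ((t : S) • y) (by
    rw [show J.subtype.lTensor M ((t : S) • y) = (t : S) • J.subtype.lTensor M y from
      (AlgebraTensorModule.lTensor S M J.subtype).map_smul _ _]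
    exact ht)
  have h3 : (r * t * s : S) • z = 0 := by
    rw [mul_smul, ← Submonoid.smul_def, hys, ← map_smul, mul_smul, hry, map_zero]
  have hu : IsUnit (algebraMap S (Module.End S (N ⊗[A] J)) ((⟨r, hr⟩ : W) * t * s : W)) :=
    IsLocalizedModule.map_units φ _
  exact ((Module.End.isUnit_iff _).1 hu).1 (h3.trans (map_zero _).symm)

theorem finite_CT [Module.Finite T₀ C₀] : Module.Finite (T₀ ⊗[R₀] A) (CT (R₀ := R₀) T₀ C₀ A) :=
  finite_act (R₀ := R₀) T₀ C₀ (A := A) (N := A)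

/-- The local criterion at one stage. -/
theorem flat_of_killed_maximal [IsNoetherianRing A] [Algebra.FiniteType R₀ T₀] [Module.Finite T₀ C₀]
    (p : Ideal A) [p.IsMaximal] (P : Ideal (T₀ ⊗[R₀] A)) [P.IsPrime] (hp : p.map (algebraMap A _) ≤ P)
    (h : Killed T₀ C₀ p P.primeCompl) : Module.Flat A (LocalizedModule P.primeCompl (CT (R₀ := R₀) T₀ C₀ A)) := by
  haveI := isNoetherianRing_tensor (R₀ := R₀) T₀ (A := A)
  haveI := finite_CT (R₀ := R₀) T₀ C₀ (A := A)
  let B := Localization P.primeCompl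
  haveI : IsNoetherianRing B := IsLocalization.isNoetherianRing P.primeCompl B inferInstance
  refine LocalCrit.flat_of_le_jacobson (B := B) p ?_ ?_ (LocalCrit.keepsInjective_of_isMaximal p _)
  · refine le_trans ?_ (IsLocalRing.maximalIdeal_le_jacobson _)
    rw [IsScalarTower.algebraMap_eq A (T₀ ⊗[R₀] A) B, ← Ideal.map_map]
    exact (Ideal.map_mono hp).trans (Localization.AtPrime.map_eq_maximalIdeal).le
  · exact rTensor_injective_of_killed p P.primeCompl (LocalizedModule.mkLinearMap P.primeCompl _)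
      ((killed_iff T₀ C₀ p P.primeCompl).1 h)

end Groth.Agent.EssFPDescent
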