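import Mathlib

/-!
# Noetherian local stages inside a local ring
-/

set_option autoImplicit false

universe u

namespace Groth.Agent.EssFPDescent

variable {R₀ : Type u} [CommRing R₀] {R : Type u} [CommRing R] [Algebra R₀ R]

/-- The elements that some unit of `R` inside `R₁` moves into `R₁`. -/
def locSub (R₁ : Subalgebra R₀ R) : Subalgebra R₀ R where
  carrier := {x | ∃ s ∈ R₁, IsUnit s ∧ s * x ∈ R₁}
  mul_mem' := by
    rintro a b ⟨s, hs, hu, ha⟩ ⟨t, ht, hv, hb⟩
    exact ⟨s * t, mul_mem hs ht, hu.mul hv, by rw [mul_mul_mul_comm]; exact mul_mem ha hb⟩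
  add_mem' := by
    rintro a b ⟨s, hs, hu, ha⟩ ⟨t, ht, hv, hb⟩
    refine ⟨s * t, mul_mem hs ht, hu.mul hv, ?_⟩
    rw [mul_add, mul_right_comm, mul_assoc s t b]
    exact add_mem (mul_mem ha ht) (mul_mem hs hb)
  algebraMap_mem' r := ⟨1, one_mem _, isUnit_one, by rw [one_mul]; exact R₁.algebraMap_mem r⟩

theorem le_locSub (R₁ : Subalgebra R₀ R) : R₁ ≤ locSub R₁ :=
  fun x hx => ⟨1, one_mem _, isUnit_one, by rwa [one_mul]⟩

theorem locSub_mono {R₁ R₂ : Subalgebra R₀ R} (h : R₁ ≤ R₂) : locSub R₁ ≤ locSub R₂ :=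
  fun _ ⟨s, hs, hu, hx⟩ => ⟨s, h hs, hu, h hx⟩

theorem isUnit_of_isUnit_coe {R₁ : Subalgebra R₀ R} (x : locSub R₁) (hx : IsUnit (x : R)) : IsUnit x := by
  obtain ⟨s, hs, hu, hsx⟩ := x.2
  obtain ⟨u, hu'⟩ := hx
  refine isUnit_iff_exists_inv.2 ⟨⟨(↑u⁻¹ : R), s * x, hsx, hu.mul (hu' ▸ u.isUnit), ?_⟩, Subtype.ext ?_⟩
  · rw [mul_assoc, ← hu', Units.mul_inv, mul_one]
    exact hs
  · show (x : R) * (↑u⁻¹ : R) = 1
    rw [← hu', Units.mul_inv]

theorem isNoetherianRing_locSub (R₁ : Subalgebra R₀ R) [IsNoetherianRing R₁] : IsNoetherianRing (locSub R₁) := by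
  letI : Algebra R₁ (locSub R₁) := (Subalgebra.inclusion (le_locSub R₁)).toRingHom.toAlgebra
  let M : Submonoid R₁ := (IsUnit.submonoid R).comap R₁.val.toRingHom
  haveI : IsLocalization M (locSub R₁) := by
    refine ⟨fun y => isUnit_of_isUnit_coe _ y.2, fun z => ?_, fun {x y} h => ⟨1, ?_⟩⟩
    · obtain ⟨s, hs, hu, hsz⟩ := z.2
      exact ⟨⟨⟨s * z, hsz⟩, ⟨⟨s, hs⟩, hu⟩⟩, Subtype.ext (mul_comm (z : R) s)⟩
    · have : (x : R) = y := congrArg (fun z : locSub R₁ => (z : R)) h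
      rw [Subtype.ext this]
  exact IsLocalization.isNoetherianRing M (locSub R₁) inferInstance

/-- The Noetherian local stage generated by a finite set. -/
def stage (R₀ : Type u) [CommRing R₀] [Algebra R₀ R] (s : Finset R) : Subalgebra R₀ R :=
  locSub (Algebra.adjoin R₀ (s : Set R))

theorem subset_stage (s : Finset R) : (s : Set R) ⊆ (stage R₀ s : Set R) :=
  Algebra.subset_adjoin.trans (le_locSub (Algebra.adjoin R₀ (s : Set R)))

theorem stage_mono {s t : Finset R} (h : s ⊆ t) : stage R₀ s ≤ stage R₀ t :=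
  locSub_mono (Algebra.adjoin_mono (Finset.coe_subset.2 h))

theorem isNoetherianRing_stage [IsNoetherianRing R₀] (s : Finset R) : IsNoetherianRing (stage R₀ s) := by
  haveI : Algebra.FiniteType R₀ (Algebra.adjoin R₀ (s : Set R)) :=
    (Subalgebra.fg_iff_finiteType _).1 (Subalgebra.fg_adjoin_finset s)
  haveI : IsNoetherianRing (Algebra.adjoin R₀ (s : Set R)) := Algebra.FiniteType.isNoetherianRing R₀ _
  exact isNoetherianRing_locSub _

/-- The prime of a stage below the maximal ideal. -/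
def stageIdeal [IsLocalRing R] (A : Subalgebra R₀ R) : Ideal A :=
  (IsLocalRing.maximalIdeal R).comap A.val.toRingHom

theorem isMaximal_stageIdeal [IsLocalRing R] (s : Finset R) : (stageIdeal (stage R₀ s)).IsMaximal := by
  refine Ideal.isMaximal_iff.2 ⟨fun h => ?_, fun J x _ hx hxJ => ?_⟩
  · exact (IsLocalRing.maximalIdeal.isMaximal R).ne_top ((Ideal.eq_top_iff_one _).2 h)
  · have hu : IsUnit x := isUnit_of_isUnit_coe x (by
      by_contra hu; exact hx ((IsLocalRing.mem_maximalIdeal _).2 hu))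
    obtain ⟨u, rfl⟩ := hu
    have := J.mul_mem_left (↑u⁻¹) hxJ
    rwa [Units.inv_mul] at this

end Groth.Agent.EssFPDescent
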