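import Groth.Agent.EssFPDescent.Kernel
import Groth.Agent.EssFPDescent.Module
import Groth.Agent.EssFPDescent.Stage
import Groth.Agent.AssFiber.Basic

/-!
# The local criterion of flatness without Noetherian hypotheses
-/

set_option autoImplicit false

universe u

open TensorProduct
attribute [local instance] Algebra.TensorProduct.rightAlgebra

noncomputable section

namespace Groth.Agent.EssFPDescent

variable {R₀ : Type u} [CommRing R₀] (T₀ : Type u) [CommRing T₀] [Algebra R₀ T₀]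
  (C₀ : Type u) [AddCommGroup C₀] [Module R₀ C₀] [Module T₀ C₀] [IsScalarTower R₀ T₀ C₀]
  {R : Type u} [CommRing R] [IsLocalRing R] [Algebra R₀ R]

/-- `T₀ ⊗ A → T₀ ⊗ R`. -/
abbrev toTop (A : Subalgebra R₀ R) : T₀ ⊗[R₀] A →ₐ[R₀] T₀ ⊗[R₀] R :=
  Algebra.TensorProduct.map (AlgHom.id R₀ T₀) A.val

/-- An inclusion of stages. -/
abbrev stepHom {A A' : Subalgebra R₀ R} (h : A ≤ A') : T₀ ⊗[R₀] A →ₐ[R₀] T₀ ⊗[R₀] A' :=
  Algebra.TensorProduct.map (AlgHom.id R₀ T₀) (Subalgebra.inclusion h)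

omit [IsLocalRing R] in
theorem toTop_stepHom {A A' : Subalgebra R₀ R} (h : A ≤ A') (s : T₀ ⊗[R₀] A) :
    toTop T₀ A' (stepHom T₀ h s) = toTop T₀ A s := by
  induction s using TensorProduct.induction_on with
  | zero => simp only [map_zero]
  | tmul t a => rfl
  | add x y hx hy => simp only [map_add, hx, hy]

/-- `p_A → m`. -/
def toMax (A : Subalgebra R₀ R) : stageIdeal A →ₗ[R₀] IsLocalRing.maximalIdeal R where
  toFun x := ⟨((x : A) : R), x.2⟩
  map_add' _ _ := rfl
  map_smul' _ _ := rfl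

/-- `p_A → p_A'`. -/
def stepIdeal {A A' : Subalgebra R₀ R} (h : A ≤ A') : stageIdeal A →ₗ[R₀] stageIdeal A' where
  toFun x := ⟨Subalgebra.inclusion h (x : A), x.2⟩
  map_add' _ _ := rfl
  map_smul' _ _ := rfl

variable [IsNoetherianRing R₀] [Algebra.FiniteType R₀ T₀] [Module.Finite T₀ C₀]

/-- Vanishing descends to all large stages. -/
theorem exists_stage_killed (W : Submonoid (T₀ ⊗[R₀] R)) (h : Killed T₀ C₀ (IsLocalRing.maximalIdeal R) W) :
    ∃ s₂ : Finset R, ∀ t : Finset R, s₂ ⊆ t →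
      Killed T₀ C₀ (stageIdeal (stage R₀ t)) (W.comap (toTop T₀ (stage R₀ t))) := by
  classical
  let A₁ := stage R₀ (∅ : Finset R)
  haveI : IsNoetherianRing A₁ := isNoetherianRing_stage _
  haveI := isMaximal_stageIdeal (R₀ := R₀) (∅ : Finset R)
  haveI := isNoetherianRing_tensor (R₀ := R₀) T₀ (A := ↥A₁)
  let p₁ := stageIdeal A₁
  letI := moduleAct (R₀ := R₀) T₀ C₀ (A := ↥A₁) (N := ↥p₁)
  haveI := finite_act (R₀ := R₀) T₀ C₀ (A := ↥A₁) (N := ↥p₁)
  haveI : IsNoetherian (T₀ ⊗[R₀] A₁) (C₀ ⊗[R₀] p₁) := isNoetherian_of_isNoetherianRing_of_finite _ _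
  let K₁ : Submodule (T₀ ⊗[R₀] A₁) (C₀ ⊗[R₀] p₁) :=
    { carrier := {y | (incl R₀ p₁).lTensor C₀ y = 0}
      zero_mem' := map_zero _
      add_mem' := fun {a b} ha hb => by
        show (incl R₀ p₁).lTensor C₀ (a + b) = 0
        rw [map_add, show (incl R₀ p₁).lTensor C₀ a = 0 from ha, show (incl R₀ p₁).lTensor C₀ b = 0 from hb, add_zero]
      smul_mem' := fun s y hy => by
        show (incl R₀ p₁).lTensor C₀ (ρ T₀ C₀ A₁ p₁ s y) = 0
        rw [ρ_linear T₀ C₀ (Submodule.subtype p₁), show (incl R₀ p₁).lTensor C₀ y = 0 from hy, map_zero] }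
  obtain ⟨Z, hZ⟩ := IsNoetherian.noetherian K₁
  have hZ0 : ∀ z ∈ Z, (incl R₀ p₁).lTensor C₀ z = 0 := fun z hz =>
    (show z ∈ K₁ from hZ ▸ Submodule.subset_span hz)
  have hkill : ∀ z : {z // z ∈ Z}, ∃ s ∈ W, ρ T₀ C₀ R _ s ((toMax A₁).lTensor C₀ z.1) = 0 := by
    intro z
    refine h _ ?_
    rw [← LinearMap.comp_apply, ← LinearMap.lTensor_comp,
      show incl R₀ (IsLocalRing.maximalIdeal R) ∘ₗ toMax A₁ = A₁.val.toLinearMap ∘ₗ incl R₀ p₁ from rfl,
      LinearMap.lTensor_comp, LinearMap.comp_apply, hZ0 _ z.2, map_zero]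
  choose σ hσW hσ using hkill
  let S : T₀ ⊗[R₀] R := ∏ z, σ z
  have hSW : S ∈ W := prod_mem fun z _ => hσW z
  have hS : ∀ z : {z // z ∈ Z}, ρ T₀ C₀ R _ S ((toMax A₁).lTensor C₀ z.1) = 0 := by
    intro z
    obtain ⟨c, hc⟩ := Finset.dvd_prod_of_mem σ (Finset.mem_univ z)
    show ρ T₀ C₀ R _ (∏ z, σ z) _ = 0
    rw [hc, mul_comm, ρ_mul, hσ, map_zero]
  -- an intermediate stage containing `S`
  obtain ⟨Jm, hJm, hSJ⟩ := TensorProduct.exists_finite_submodule_right_of_setFinite {S} (Set.finite_singleton S)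
  obtain ⟨S₀, hS₀⟩ := hSJ (Set.mem_singleton S)
  haveI := hJm
  obtain ⟨jG, hjG⟩ := (Module.Finite.iff_fg (N := Jm)).1 inferInstance
  let A' := stage R₀ jG
  have hle1 : A₁ ≤ A' := stage_mono (Finset.empty_subset _)
  have hJA : Jm ≤ Subalgebra.toSubmodule A' := by
    rw [← hjG, Submodule.span_le]
    exact subset_stage jG
  let S' : T₀ ⊗[R₀] A' := (Submodule.inclusion hJA).lTensor T₀ S₀
  have hS' : toTop T₀ A' S' = S := by
    have key : ∀ v : T₀ ⊗[R₀] Jm, toTop T₀ A' ((Submodule.inclusion hJA).lTensor T₀ v) = Jm.subtype.lTensor T₀ v := by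
      intro v
      induction v using TensorProduct.induction_on with
      | zero => exact (congrArg _ (map_zero ((Submodule.inclusion hJA).lTensor T₀))).trans ((map_zero (toTop T₀ A')).trans (map_zero _).symm)
      | tmul t a => rfl
      | add x y hx hy =>
        exact (congrArg (toTop T₀ A') (map_add ((Submodule.inclusion hJA).lTensor T₀) x y)).trans
          ((map_add (toTop T₀ A') _ _).trans ((congrArg₂ (· + ·) hx hy).trans (map_add _ _ _).symm))
    exact (key S₀).trans hS₀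
  let y' : {z // z ∈ Z} → C₀ ⊗[R₀] stageIdeal A' := fun z =>
    ρ T₀ C₀ A' _ S' ((stepIdeal hle1).lTensor C₀ z.1)
  have hy' : ∀ z, (toMax A').lTensor C₀ (y' z) = 0 := by
    intro z
    rw [ρ_map T₀ C₀ A'.val (toMax A') (fun a x => rfl) S',
      ← LinearMap.comp_apply (f := (toMax A').lTensor C₀), ← LinearMap.lTensor_comp]
    show ρ T₀ C₀ R _ (toTop T₀ A' S') _ = 0
    rw [hS']
    exact hS z
  have hfg : ∀ z, ∃ G : Finset R, ∀ t : Finset R, ∀ (hjt : jG ⊆ t), G ⊆ t →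
      (stepIdeal (stage_mono (R₀ := R₀) hjt)).lTensor C₀ (y' z) = 0 := by
    intro z
    obtain ⟨P, hP, hyP⟩ := TensorProduct.exists_finite_submodule_right_of_setFinite {y' z} (Set.finite_singleton _)
    obtain ⟨w, hw⟩ := hyP (Set.mem_singleton _)
    haveI := hP
    let g : P →ₗ[R₀] Submodule.map (toMax A') P := (toMax A').submoduleMap P
    obtain ⟨P', hPP', hP', hzero⟩ := AssFiber.exists_fg_lTensor_inclusion_eq_zero (N := C₀) (Submodule.map (toMax A') P)
      (Submodule.FG.map _ (Module.Finite.iff_fg.1 hP)) (g.lTensor C₀ w) (by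
        rw [← LinearMap.comp_apply, ← LinearMap.lTensor_comp,
          show (Submodule.map (toMax A') P).subtype ∘ₗ g = toMax A' ∘ₗ P.subtype from rfl,
          LinearMap.lTensor_comp, LinearMap.comp_apply]
        exact (congrArg _ hw).trans (hy' z))
    obtain ⟨G, hG⟩ := hP'
    refine ⟨G.image (Submodule.subtype ((IsLocalRing.maximalIdeal R).restrictScalars R₀)), fun t hjt hGt => ?_⟩
    have hP't : ∀ x ∈ P', ((x : IsLocalRing.maximalIdeal R) : R) ∈ stage R₀ t := by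
      intro x hx
      rw [← hG] at hx
      refine Submodule.span_induction ?_ (zero_mem _) (fun a b _ _ ha hb => add_mem ha hb)
        (fun c a _ ha => Subalgebra.smul_mem _ ha c) hx
      intro a ha
      exact subset_stage t (hGt (Finset.mem_image_of_mem _ ha))
    let hmap : P' →ₗ[R₀] stageIdeal (stage R₀ t) :=
      { toFun := fun x => ⟨⟨((x : IsLocalRing.maximalIdeal R) : R), hP't _ x.2⟩, x.1.2⟩
        map_add' := fun _ _ => rfl
        map_smul' := fun _ _ => rfl }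
    rw [← hw, ← LinearMap.comp_apply, ← LinearMap.lTensor_comp,
      show stepIdeal (stage_mono (R₀ := R₀) hjt) ∘ₗ P.subtype = hmap ∘ₗ Submodule.inclusion hPP' ∘ₗ g from rfl,
      LinearMap.lTensor_comp, LinearMap.lTensor_comp, LinearMap.comp_apply, LinearMap.comp_apply, hzero, map_zero]
  choose G hG using hfg
  refine ⟨jG ∪ Finset.univ.biUnion G, fun t ht y hy => ?_⟩
  let A₂ := stage R₀ t
  have hjt : jG ⊆ t := Finset.union_subset_left ht
  have hle2 : A₁ ≤ A₂ := stage_mono (Finset.empty_subset _)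
  have hA' : A' ≤ A₂ := stage_mono hjt
  let S₂ : T₀ ⊗[R₀] A₂ := stepHom T₀ hA' S'
  refine ⟨S₂, ?_, ?_⟩
  · show toTop T₀ A₂ S₂ ∈ W
    rw [toTop_stepHom, hS']
    exact hSW
  letI : Algebra A₁ A₂ := (Subalgebra.inclusion hle2).toRingHom.toAlgebra
  haveI : IsScalarTower R₀ A₁ A₂ := IsScalarTower.of_algebraMap_eq fun _ => rfl
  let p₂ := stageIdeal A₂
  have hp : p₁.map (algebraMap A₁ A₂) ≤ p₂ := Ideal.map_le_iff_le_comap.2 fun x hx => hx
  let one : p₁ →ₗ[R₀] p₂ := stepIdeal hle2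
  have hone : ∀ z ∈ K₁, ρ T₀ C₀ A₂ _ S₂ (one.lTensor C₀ z) = 0 := by
    intro z hz
    rw [← hZ] at hz
    refine Submodule.span_induction ?_ ?_ ?_ ?_ hz
    · intro z hz
      have h1 := hG ⟨z, hz⟩ t hjt
        ((Finset.subset_biUnion_of_mem G (Finset.mem_univ _)).trans (Finset.union_subset_right ht))
      rw [ρ_map T₀ C₀ (Subalgebra.inclusion hA') (stepIdeal hA') (fun a x => rfl) S',
        ← LinearMap.comp_apply (f := (stepIdeal hA').lTensor C₀), ← LinearMap.lTensor_comp] at h1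
      exact h1
    · simp only [map_zero]
    · intro a b _ _ ha hb
      simp only [map_add, ha, hb, add_zero]
    · intro c a _ ha
      show ρ T₀ C₀ A₂ _ S₂ (one.lTensor C₀ (ρ T₀ C₀ A₁ p₁ c a)) = 0
      rw [ρ_map T₀ C₀ (Subalgebra.inclusion hle2) one (fun a x => rfl) c, ρ_comm, ha, map_zero]
  refine Submodule.span_induction ?_ (map_zero _) (fun a b _ _ ha hb => by rw [map_add, ha, hb, add_zero])
    (fun c a _ ha => by rw [map_smul, ha, smul_zero]) (ker_le_span C₀ p₁ p₂ hp y hy)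
  rintro _ ⟨a, z, hz, rfl⟩
  have hmul : (mulTo p₁ p₂ hp a).restrictScalars R₀ =
      ((LinearMap.lsmul A₂ p₂ a).restrictScalars R₀) ∘ₗ one := LinearMap.ext fun x => rfl
  rw [hmul, LinearMap.lTensor_comp, LinearMap.comp_apply,
    show ((LinearMap.lsmul A₂ p₂ a).restrictScalars R₀).lTensor C₀ (one.lTensor C₀ z) =
      ((LinearMap.lsmul A₂ p₂ a).restrictScalars R₀).lTensor C₀ (one.lTensor C₀ z) from rfl,
    ← ρ_linear T₀ C₀ (LinearMap.lsmul A₂ p₂ a), hone z hz, map_zero]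

/-- The local criterion of flatness: vanishing on the maximal ideal gives vanishing on every ideal. -/
theorem killed_all (Q : Ideal (T₀ ⊗[R₀] R)) [Q.IsPrime]
    (hQ : (IsLocalRing.maximalIdeal R).map (algebraMap R _) ≤ Q)
    (h : Killed T₀ C₀ (IsLocalRing.maximalIdeal R) Q.primeCompl) (J : Ideal R) : Killed T₀ C₀ J Q.primeCompl := by
  classical
  obtain ⟨s₂, hs₂⟩ := exists_stage_killed T₀ C₀ Q.primeCompl h
  intro y hy
  obtain ⟨P, hP, hyP⟩ := TensorProduct.exists_finite_submodule_right_of_setFinite {y} (Set.finite_singleton _)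
  obtain ⟨w, hw⟩ := hyP (Set.mem_singleton _)
  haveI := hP
  let g : P →ₗ[R₀] Submodule.map (incl R₀ J) P := (incl R₀ J).submoduleMap P
  obtain ⟨P', hPP', hP', hzero⟩ := AssFiber.exists_fg_lTensor_inclusion_eq_zero (N := C₀) (Submodule.map (incl R₀ J) P)
    (Submodule.FG.map _ (Module.Finite.iff_fg.1 hP)) (g.lTensor C₀ w) (by
      rw [← LinearMap.comp_apply, ← LinearMap.lTensor_comp,
        show (Submodule.map (incl R₀ J) P).subtype ∘ₗ g = incl R₀ J ∘ₗ P.subtype from rfl,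
        LinearMap.lTensor_comp, LinearMap.comp_apply]
      exact (congrArg _ hw).trans hy)
  obtain ⟨G, hG⟩ := hP'
  let t := s₂ ∪ G
  let A := stage R₀ t
  haveI : IsNoetherianRing A := isNoetherianRing_stage _
  haveI := isMaximal_stageIdeal (R₀ := R₀) t
  let Qt : Ideal (T₀ ⊗[R₀] A) := Q.comap (toTop T₀ A)
  have hW : Qt.primeCompl = Q.primeCompl.comap (toTop T₀ A) := rfl
  have hflat := flat_of_killed_maximal T₀ C₀ (stageIdeal A) Qt (Ideal.map_le_iff_le_comap.2 fun x hx => by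
    show toTop T₀ A ((1 : T₀) ⊗ₜ[R₀] x) ∈ Q
    exact hQ (Ideal.mem_map_of_mem _ (hx : (x : R) ∈ IsLocalRing.maximalIdeal R))) (by
      rw [hW]; exact hs₂ t Finset.subset_union_left)
  have hPA : ∀ x ∈ P', x ∈ A := by
    intro x hx
    rw [← hG] at hx
    exact Submodule.span_le (p := Subalgebra.toSubmodule A) |>.2
      (fun a ha => subset_stage t (Finset.mem_union_right _ ha)) hx
  let J' : Ideal A := J.comap A.val.toRingHom
  let gA : P →ₗ[R₀] J' :=
    { toFun := fun x => ⟨⟨((x : J) : R), hPA _ (hPP' ⟨x.1, x.2, rfl⟩)⟩, x.1.2⟩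
      map_add' := fun _ _ => rfl
      map_smul' := fun _ _ => rfl }
  let hA : P' →ₗ[R₀] A :=
    { toFun := fun x => ⟨x.1, hPA _ x.2⟩
      map_add' := fun _ _ => rfl
      map_smul' := fun _ _ => rfl }
  obtain ⟨s, hs, hsy⟩ := (flat_iff_killed T₀ C₀ Qt.primeCompl).1 hflat J' (gA.lTensor C₀ w) (by
    rw [← LinearMap.comp_apply, ← LinearMap.lTensor_comp,
      show incl R₀ J' ∘ₗ gA = hA ∘ₗ Submodule.inclusion hPP' ∘ₗ g from rfl,
      LinearMap.lTensor_comp, LinearMap.lTensor_comp, LinearMap.comp_apply, LinearMap.comp_apply, hzero, map_zero])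
  refine ⟨toTop T₀ A s, hs, ?_⟩
  let back : J' →ₗ[R₀] J :=
    { toFun := fun x => ⟨((x : A) : R), x.2⟩
      map_add' := fun _ _ => rfl
      map_smul' := fun _ _ => rfl }
  have hyw : y = back.lTensor C₀ (gA.lTensor C₀ w) := by
    rw [← LinearMap.comp_apply, ← LinearMap.lTensor_comp, ← hw]
    rfl
  rw [hyw]
  show ρ T₀ C₀ R J (Algebra.TensorProduct.map (AlgHom.id R₀ T₀) A.val s) _ = 0
  rw [← ρ_map T₀ C₀ A.val back (fun a x => rfl) s, hsy, map_zero]

/-- The local criterion of flatness for modules of finite presentation. -/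
theorem flat_localized (Q : Ideal (T₀ ⊗[R₀] R)) [Q.IsPrime]
    (hQ : (IsLocalRing.maximalIdeal R).map (algebraMap R _) ≤ Q)
    (h : Killed T₀ C₀ (IsLocalRing.maximalIdeal R) Q.primeCompl) :
    Module.Flat R (LocalizedModule Q.primeCompl (CT (R₀ := R₀) T₀ C₀ R)) :=
  (flat_iff_killed T₀ C₀ Q.primeCompl).2 (killed_all T₀ C₀ Q hQ h)

end Groth.Agent.EssFPDescent
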