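import Mathlib
import Groth.Prelude.Def_CAlgX

/-!
# Algebras essentially of finite presentation: cancellation
-/

set_option autoImplicit false

universe u

open TensorProduct

noncomputable section

namespace Groth.Agent.EssFPDescent

theorem isEssFinitePresentation_of_comp {R S S' : Type u} [CommRing R] [CommRing S] [CommRing S'] [Algebra R S]
    [Algebra S S'] [Algebra R S'] [IsScalarTower R S S']
    (hS : CAlgX.IsEssFinitePresentation R S) (hS' : CAlgX.IsEssFinitePresentation R S') :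
    CAlgX.IsEssFinitePresentation S S' := by
  classical
  obtain ⟨A, _, _, _, _, W, hA, hW⟩ := hS
  obtain ⟨B, _, _, _, _, W', hB, hW'⟩ := hS'
  obtain ⟨G, hG⟩ := (inferInstance : Algebra.FiniteType R A).out
  let g : B →ₐ[R] S' := IsScalarTower.toAlgHom R B S'
  have hfr : ∀ x : A, ∃ p : B × W', algebraMap S S' (algebraMap A S x) * g p.2 = g p.1 :=
    fun x => IsLocalization.surj W' _
  choose p hp using hfr
  let r : A → S ⊗[R] B := fun x => algebraMap A S x ⊗ₜ ((p x).2 : B) - (1 : S) ⊗ₜ (p x).1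
  let I : Ideal (S ⊗[R] B) := Ideal.span (r '' (G : Set A))
  let μ : S ⊗[R] B →ₐ[S] S' := Algebra.TensorProduct.lift (Algebra.ofId S S') g fun _ _ => Commute.all _ _
  have hμ : ∀ b : B, μ ((1 : S) ⊗ₜ b) = g b := fun b => by simp [μ]
  have hI : ∀ x ∈ I, μ x = 0 := by
    intro x hx
    refine (Ideal.span_le (I := RingHom.ker μ.toRingHom)).2 ?_ hx
    rintro _ ⟨a, _, rfl⟩
    show μ (r a) = 0
    simp only [r, map_sub, μ, Algebra.TensorProduct.lift_tmul, map_one, one_mul, Algebra.ofId_apply, hp, sub_self]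
  let T := (S ⊗[R] B) ⧸ I
  let ν : T →ₐ[S] S' := Ideal.Quotient.liftₐ I μ hI
  let i : B →ₐ[R] T := (Ideal.Quotient.mkₐ R I).comp Algebra.TensorProduct.includeRight
  let j : A →ₐ[R] T := (IsScalarTower.toAlgHom R S T).comp (IsScalarTower.toAlgHom R A S)
  have hνi : ∀ b, ν (i b) = g b := fun b => hμ b
  have hνj : ∀ a, ν (j a) = algebraMap S S' (algebraMap A S a) := fun a => ν.commutes _
  haveI : Algebra.FinitePresentation S T :=
    Algebra.FinitePresentation.quotient ⟨G.image r, by rw [Finset.coe_image]⟩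
  let P : Subalgebra R T :=
    { carrier := {t | ∃ b : B, ∃ w ∈ W', i w * t = i b}
      mul_mem' := by
        rintro t t' ⟨b, w, hw, h⟩ ⟨b', w', hw', h'⟩
        exact ⟨b * b', w * w', mul_mem hw hw', by rw [map_mul, map_mul, ← h, ← h']; ring⟩
      add_mem' := by
        rintro t t' ⟨b, w, hw, h⟩ ⟨b', w', hw', h'⟩
        exact ⟨b * w' + w * b', w * w', mul_mem hw hw', by
          rw [map_mul, map_add, map_mul, map_mul, ← h, ← h']; ring⟩
      algebraMap_mem' := fun c => ⟨algebraMap R B c, 1, one_mem _, by rw [map_one, one_mul, AlgHom.commutes]⟩ }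
  have hPi : ∀ b, i b ∈ P := fun b => ⟨b, 1, one_mem _, by rw [map_one, one_mul]⟩
  have hPj : ∀ a, j a ∈ P := by
    suffices h : Algebra.adjoin R (G : Set A) ≤ P.comap j from fun a => h (hG ▸ Algebra.mem_top)
    refine Algebra.adjoin_le fun a ha => ⟨(p a).1, (p a).2, (p a).2.2, ?_⟩
    rw [← sub_eq_zero]
    show Ideal.Quotient.mk I ((1 : S) ⊗ₜ ((p a).2 : B)) * Ideal.Quotient.mk I (algebraMap S (S ⊗[R] B) (algebraMap A S a)) -
      Ideal.Quotient.mk I ((1 : S) ⊗ₜ (p a).1) = 0
    rw [← map_mul, ← map_sub, Ideal.Quotient.eq_zero_iff_mem, Algebra.TensorProduct.algebraMap_apply,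
      Algebra.TensorProduct.tmul_mul_tmul, one_mul, mul_one]
    exact Ideal.subset_span ⟨a, ha, rfl⟩
  have hPS : ∀ s : S, algebraMap S T s ∈ P := by
    intro s
    obtain ⟨⟨a, w⟩, hs⟩ := IsLocalization.surj W s
    obtain ⟨b₁, w₁, hw₁, h₁⟩ := hPj (w : A)
    obtain ⟨b₂, w₂, hw₂, h₂⟩ := hPj a
    have hu : IsUnit (g b₁) := by
      rw [← hνi, ← h₁, map_mul, hνi, hνj]
      exact (IsLocalization.map_units S' ⟨w₁, hw₁⟩).mul ((IsLocalization.map_units S w).map _)
    obtain ⟨v, hv⟩ := hu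
    obtain ⟨⟨b', w'⟩, hb'⟩ := IsLocalization.surj W' (↑v⁻¹ : S')
    obtain ⟨c, hc⟩ := IsLocalization.exists_of_eq (M := W') (S := S') (x := b₁ * b') (y := (w' : B)) (by
      show g (b₁ * b') = g w'
      rw [map_mul, ← hv, show g b' = (↑v⁻¹ : S') * g w' from hb'.symm, Units.mul_inv_cancel_left])
    refine ⟨c * b' * w₁ * b₂, c * w' * w₂, mul_mem (mul_mem c.2 w'.2) hw₂, ?_⟩
    have h3 : algebraMap S T s * j w = j a := by
      show algebraMap S T s * algebraMap S T (algebraMap A S w) = algebraMap S T (algebraMap A S a)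
      rw [← map_mul, hs]
    have h4 : i ((c : B) * w') = i ((c : B) * (b₁ * b')) := by rw [hc]
    simp only [map_mul] at h4 ⊢
    rw [← h₂, ← h3, h4, ← h₁]
    ring
  have hPtop : ∀ t : T, t ∈ P := by
    intro t
    obtain ⟨x, rfl⟩ := Ideal.Quotient.mk_surjective t
    induction x using TensorProduct.induction_on with
    | zero => rw [map_zero]; exact zero_mem _
    | add x y hx hy => rw [map_add]; exact add_mem hx hy
    | tmul s b =>
      have : Ideal.Quotient.mk I (s ⊗ₜ[R] b) = algebraMap S T s * i b := by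
        show _ = Ideal.Quotient.mk I (algebraMap S _ s) * Ideal.Quotient.mk I ((1 : S) ⊗ₜ b)
        rw [← map_mul, Algebra.TensorProduct.algebraMap_apply, Algebra.TensorProduct.tmul_mul_tmul, mul_one, one_mul]
        rfl
      rw [this]
      exact mul_mem (hPS s) (hPi b)
  letI : Algebra T S' := ν.toRingHom.toAlgebra
  haveI : IsScalarTower S T S' := IsScalarTower.of_algebraMap_eq fun s => (ν.commutes s).symm
  refine ⟨T, inferInstance, inferInstance, inferInstance, inferInstance, W'.map i.toRingHom, inferInstance, ?_⟩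
  refine ⟨fun y => ?_, fun z => ?_, fun {x y} hxy => ?_⟩
  · obtain ⟨w, hw, hwy⟩ := y.2
    show IsUnit (ν y.1)
    rw [← hwy]
    show IsUnit (ν (i w))
    rw [hνi]
    exact IsLocalization.map_units S' ⟨w, hw⟩
  · obtain ⟨⟨b, w⟩, h⟩ := IsLocalization.surj W' z
    refine ⟨⟨i b, ⟨i w, w, w.2, rfl⟩⟩, ?_⟩
    show z * ν (i w) = ν (i b)
    rw [hνi, hνi]
    exact h
  · obtain ⟨b, w, hw, h⟩ := hPtop x
    obtain ⟨b', w', hw', h'⟩ := hPtop y
    obtain ⟨c, hc⟩ := IsLocalization.exists_of_eq (M := W') (S := S') (x := b * w') (y := b' * w) (by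
      show g (b * w') = g (b' * w)
      have hxy' : ν x = ν y := hxy
      rw [map_mul, map_mul, ← hνi b, ← hνi b', ← h, ← h', map_mul, map_mul, hνi, hνi, hxy']
      ring)
    refine ⟨⟨i (c * w * w'), _, mul_mem (mul_mem c.2 hw) hw', rfl⟩, ?_⟩
    have h5 : i ((c : B) * (b * w')) = i ((c : B) * (b' * w)) := by rw [hc]
    simp only [map_mul] at h5 ⊢
    rw [← h, ← h'] at h5
    linear_combination h5

end Groth.Agent.EssFPDescent
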