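import Groth.Agent.S2107
import Groth.Agent.EssFPDescent.Cancel
import Groth.Agent.AssFiber.Basic
import Groth.Agent.W4Lib.Flat

/-!
# Weakly associated primes of `N ⊗ Q` come from the fibres
-/

set_option autoImplicit false

universe u

open TensorProduct
attribute [local instance] Algebra.TensorProduct.rightAlgebra

noncomputable section

namespace Groth.Agent.EssFPDescent

variable {R S : Type u} [CommRing R] [CommRing S] [Algebra R S]
  (N : Type u) [AddCommGroup N] [Module S N] [Module R N] [IsScalarTower R S N]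

omit N in
/-- An ideal of the fibre ring is extended from `S`. -/
theorem map_includeRight_eq (p : Ideal R) [p.IsPrime] (r : Ideal (p.Fiber S)) (q : Ideal S)
    (h : r.comap (Algebra.TensorProduct.includeRight (R := R) (A := p.ResidueField) (B := S)).toRingHom = q) :
    q.map (Algebra.TensorProduct.includeRight (R := R) (A := p.ResidueField) (B := S)).toRingHom = r := by
  refine le_antisymm (Ideal.map_le_iff_le_comap.2 h.ge) fun b hb => ?_
  obtain ⟨c, hc, a, hca⟩ := AssFiber.exists_smul_eq_includeRight p (S := S) b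
  have hu : IsUnit ((1 : p.ResidueField) ⊗ₜ[R] algebraMap R S c : p.Fiber S) := by
    rw [Algebra.algebraMap_eq_smul_one, ← smul_tmul, ← Algebra.algebraMap_eq_smul_one]
    exact (isUnit_iff_ne_zero.2 fun h => hc (Ideal.algebraMap_residueField_eq_zero.1 h)).map
      (Algebra.TensorProduct.includeLeftRingHom (R := R) (A := p.ResidueField) (B := S))
  have ha : a ∈ q := by
    rw [← h]
    show (1 : p.ResidueField) ⊗ₜ[R] a ∈ r
    rw [← hca]
    exact Ideal.mul_mem_left _ _ hb
  refine (Ideal.unit_mul_mem_iff_mem _ hu).1 ?_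
  rw [hca]
  exact Ideal.mem_map_of_mem _ ha

/-- An element of a prime which is not a zero divisor on the fibre near that prime. -/
theorem exists_mem_regular_fibre [Module.Finite S N] (p : Ideal R) [p.IsPrime] [IsNoetherianRing (p.Fiber S)]
    (q : Ideal S) [q.IsPrime]
    (hass : ∀ r ∈ associatedPrimes (p.Fiber S) (FlatCA.fiberMod p S N),
      r.comap (Algebra.TensorProduct.includeRight (R := R) (A := p.ResidueField) (B := S)).toRingHom ≠ q) :
    ∃ s ∈ q, ∀ y : FlatCA.fiberMod p S N, s • y = 0 → ∃ t ∉ q, t • y = 0 := by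
  classical
  haveI : Module.Finite (p.Fiber S) (FlatCA.fiberMod p S N) :=
    inferInstanceAs (Module.Finite (p.Fiber S) (TensorProduct S (p.Fiber S) N))
  let ι := (Algebra.TensorProduct.includeRight (R := R) (A := p.ResidueField) (B := S)).toRingHom
  let A := (associatedPrimes.finite (p.Fiber S) (FlatCA.fiberMod p S N)).toFinset.filter fun r => r.comap ι ≤ q
  have hA : ∀ r, r ∈ A ↔ r ∈ associatedPrimes (p.Fiber S) (FlatCA.fiberMod p S N) ∧ r.comap ι ≤ q := fun r => by
    simp [A]
  have hnsub : ¬ ((q : Set S) ⊆ ⋃ r ∈ (A : Set (Ideal (p.Fiber S))), (r.comap ι : Set S)) := by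
    rw [Ideal.subset_union_prime ⊥ ⊥ fun r hr _ _ => haveI := ((hA r).1 hr).1.isPrime; Ideal.IsPrime.comap _]
    rintro ⟨r, hr, hle⟩
    exact hass r ((hA r).1 hr).1 (le_antisymm ((hA r).1 hr).2 hle)
  obtain ⟨s, hsq, hs⟩ := Set.not_subset.1 hnsub
  refine ⟨s, hsq, fun y hy => ?_⟩
  by_contra hne
  push Not at hne
  let Y := Submodule.span (p.Fiber S) {y}
  have hle : Y.annihilator.comap ι ≤ q := fun t ht => by
    by_contra htq
    refine hne t htq ?_
    rw [← AssFiber.algebraMap_smul_fiberMod]
    exact Submodule.mem_annihilator.1 ht y (Submodule.mem_span_singleton_self y)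
  have hdisj : Disjoint (Y.annihilator : Set (p.Fiber S)) ((q.primeCompl.map ι : Submonoid (p.Fiber S)) : Set (p.Fiber S)) := by
    rw [Set.disjoint_left]
    rintro _ hx ⟨t, ht, rfl⟩
    exact ht (hle hx)
  obtain ⟨P, hP, hYP, hPd⟩ := Ideal.exists_le_prime_disjoint _ _ hdisj
  obtain ⟨r, hr, hrP⟩ := Ideal.exists_minimalPrimes_le hYP
  haveI : Module.Finite (p.Fiber S) Y := Module.Finite.iff_fg.2 (Submodule.fg_span_singleton y)
  have hrass : r ∈ associatedPrimes (p.Fiber S) (FlatCA.fiberMod p S N) := by
    have h1 : r ∈ associatedPrimes (p.Fiber S) Y := by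
      refine Module.associatedPrimes.minimalPrimes_annihilator_subset_associatedPrimes (p.Fiber S) Y ?_
      exact hr
    exact associatedPrimes.subset_of_injective (f := Y.subtype) (Submodule.injective_subtype _) h1
  have hrq : r.comap ι ≤ q := fun t ht => by
    by_contra htq
    exact Set.disjoint_left.1 hPd (hrP ht) ⟨t, htq, rfl⟩
  refine hs (Set.mem_biUnion ((hA r).2 ⟨hrass, hrq⟩) ?_)
  refine hr.1.2 (Submodule.mem_annihilator.2 fun z hz => ?_)
  obtain ⟨c, rfl⟩ := Submodule.mem_span_singleton.1 hz
  rw [smul_comm]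
  exact (congrArg (c • ·) ((AssFiber.algebraMap_smul_fiberMod p N s y).trans hy)).trans (smul_zero c)

/-- Localisations of flat modules are flat over the base. -/
theorem flat_localizedModule [Module.Flat R N] (W : Submonoid S) : Module.Flat R (LocalizedModule W N) :=
  (FlatModel.flat_localized_iff W (LocalizedModule.mkLinearMap W N)).2 fun J y hy => ⟨1, one_mem _, by
    rw [one_smul]
    exact Module.Flat.lTensor_preserves_injective_linearMap J.subtype J.injective_subtype (hy.trans (map_zero _).symm)⟩

section Stalk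

variable (p : Ideal R) [p.IsPrime] (q : Ideal S) [q.IsPrime] [q.LiesOver p]

theorem algebraMap_mem_primeCompl {r : R} (hr : r ∉ p) : algebraMap R S r ∈ q.primeCompl := fun h =>
  hr (by rw [Ideal.LiesOver.over (p := p) (P := q)]; exact h)

/-- Membership in `p S_q N_q`. -/
theorem exists_mem_pN_of_mem {z : LocalizedModule q.primeCompl N}
    (hz : z ∈ p.map (algebraMap R (Localization.AtPrime q)) •
      (⊤ : Submodule (Localization.AtPrime q) (LocalizedModule q.primeCompl N))) :
    ∃ u ∉ q, ∃ n ∈ AssFiber.pN p (S := S) N, u • z = LocalizedModule.mkLinearMap q.primeCompl N n := by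
  have hz' := AssFiber.mem_smul_top_of_mem_pN p (S := Localization.AtPrime q) (LocalizedModule q.primeCompl N) hz
  refine Submodule.smul_induction_on hz' (fun r hr w _ => ?_) (fun a b ha hb => ?_)
  · obtain ⟨⟨n, u⟩, hw⟩ := IsLocalizedModule.surj q.primeCompl (LocalizedModule.mkLinearMap q.primeCompl N) w
    refine ⟨u, u.2, r • n, AssFiber.smul_mem_pN p N (Submodule.smul_mem_smul hr trivial), ?_⟩
    rw [LinearMap.map_smul_of_tower, ← hw, Submonoid.smul_def, smul_comm]
  · obtain ⟨u, hu, n, hn, e⟩ := ha
    obtain ⟨v, hv, n', hn', e'⟩ := hb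
    refine ⟨v * u, q.primeCompl.mul_mem hv hu, v • n + u • n',
      add_mem (Submodule.smul_mem _ _ hn) (Submodule.smul_mem _ _ hn'), ?_⟩
    rw [map_add, map_smul, map_smul, ← e, ← e', smul_add, smul_smul, smul_smul, mul_comm v u]

omit [q.LiesOver p] in
theorem mkLinearMap_mem {n : N} (hn : n ∈ AssFiber.pN p (S := S) N) :
    LocalizedModule.mkLinearMap q.primeCompl N n ∈ p.map (algebraMap R (Localization.AtPrime q)) •
      (⊤ : Submodule (Localization.AtPrime q) (LocalizedModule q.primeCompl N)) := by
  refine AssFiber.smul_mem_pN p _ ?_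
  have h1 : LocalizedModule.mkLinearMap q.primeCompl N n ∈
      (p • (⊤ : Submodule R N)).map ((LocalizedModule.mkLinearMap q.primeCompl N).restrictScalars R) :=
    Submodule.mem_map_of_mem (AssFiber.mem_smul_top_of_mem_pN p N hn)
  rw [Submodule.map_smul''] at h1
  exact Submodule.smul_mono le_rfl le_top h1

/-- The hypothesis of the criterion on the stalk. -/
theorem mem_of_smul_mem (s : S) (hs : ∀ y : FlatCA.fiberMod p S N, s • y = 0 → ∃ t ∉ q, t • y = 0)
    {x : LocalizedModule q.primeCompl N} (hx : s • x ∈ p.map (algebraMap R (Localization.AtPrime q)) •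
      (⊤ : Submodule (Localization.AtPrime q) (LocalizedModule q.primeCompl N))) :
    x ∈ p.map (algebraMap R (Localization.AtPrime q)) •
      (⊤ : Submodule (Localization.AtPrime q) (LocalizedModule q.primeCompl N)) := by
  let f := LocalizedModule.mkLinearMap q.primeCompl N
  obtain ⟨⟨n, u⟩, hu⟩ := IsLocalizedModule.surj q.primeCompl f x
  obtain ⟨v, hv, n₀, hn₀, e⟩ := exists_mem_pN_of_mem N p q hx
  have hu' : (u : S) • x = f n := hu
  have h1 : f ((v * s) • n) = f ((u : S) • n₀) := by
    rw [map_smul, map_smul, ← hu', ← e, smul_smul, smul_smul, smul_smul]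
    congr 1
    ring
  obtain ⟨c, hc⟩ := IsLocalizedModule.exists_of_eq (S := q.primeCompl) h1
  have h2 : ((c : S) * v * s) • FlatCA.toFiberMod p (S := S) N n = 0 := by
    rw [← map_smul]
    refine AssFiber.toFiberMod_eq_zero_of_mem p N ?_
    have hc' : (c : S) • (v * s) • n = (c : S) • (u : S) • n₀ := hc
    rw [mul_assoc, mul_smul, hc']
    exact Submodule.smul_mem _ _ (Submodule.smul_mem _ _ hn₀)
  obtain ⟨t, ht, ht'⟩ := hs (((c : S) * v) • FlatCA.toFiberMod p (S := S) N n) (by
    rw [smul_smul, mul_comm]; exact h2)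
  rw [smul_smul, ← map_smul] at ht'
  obtain ⟨r, hr, hrn⟩ := AssFiber.exists_smul_mem_of_toFiberMod_eq_zero p N ht'
  rw [smul_smul] at hrn
  have h3 := mkLinearMap_mem N p q hrn
  rw [map_smul, ← hu', smul_smul] at h3
  obtain ⟨a, ha⟩ := IsLocalization.map_units (Localization.AtPrime q)
    (⟨algebraMap R S r * (t * ((c : S) * v)) * (u : S),
      q.primeCompl.mul_mem (q.primeCompl.mul_mem (algebraMap_mem_primeCompl p q hr)
        (q.primeCompl.mul_mem ht (q.primeCompl.mul_mem c.2 hv))) u.2⟩ : q.primeCompl)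
  have h4 := Submodule.smul_mem _ (↑a⁻¹ : Localization.AtPrime q) h3
  rw [← algebraMap_smul (Localization.AtPrime q) (algebraMap R S r * (t * ((c : S) * v)) * (u : S)) x, smul_smul,
    ← ha, Units.inv_mul, one_smul] at h4
  exact h4

end Stalk

/-- The local statement, seen over a ring of which the base is a localisation. -/
theorem univInj_of_local {R R₁ S₁ : Type u} [CommRing R] [CommRing R₁] [CommRing S₁] [IsLocalRing R₁]
    [IsLocalRing S₁] [Algebra R R₁] [Algebra R₁ S₁] [Algebra R S₁] [IsScalarTower R R₁ S₁]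
    [IsLocalHom (algebraMap R₁ S₁)] (W : Submonoid R) [IsLocalization W R₁]
    (hS₁ : CAlgX.IsEssFinitePresentation R₁ S₁)
    {M₁ N₁ : Type u} [AddCommGroup M₁] [Module S₁ M₁] [Module R₁ M₁] [Module R M₁] [IsScalarTower R₁ S₁ M₁]
    [IsScalarTower R R₁ M₁] [IsScalarTower R S₁ M₁] [Module.FinitePresentation S₁ M₁]
    [AddCommGroup N₁] [Module S₁ N₁] [Module R₁ N₁] [Module R N₁] [IsScalarTower R₁ S₁ N₁]
    [IsScalarTower R R₁ N₁] [IsScalarTower R S₁ N₁] [Module.FinitePresentation S₁ N₁] [Module.Flat R₁ N₁]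
    (u : M₁ →ₗ[S₁] N₁)
    (h : ∀ x : M₁, u x ∈ (IsLocalRing.maximalIdeal R₁).map (algebraMap R₁ S₁) • (⊤ : Submodule S₁ N₁) →
      x ∈ (IsLocalRing.maximalIdeal R₁).map (algebraMap R₁ S₁) • (⊤ : Submodule S₁ M₁)) :
    FlatCA.UnivInj R (u.restrictScalars R) := by
  intro Q _ _
  obtain ⟨hi, hflat⟩ := S2107.result (M := M₁) (N := N₁) hS₁ u h
  haveI : Module.Flat R (N₁ ⧸ LinearMap.range u) := (Module.flat_iff_of_isLocalization R₁ W _).1 hflat
  exact W4Lib.lTensor_injective_of_flat_quotient (f := u.restrictScalars R)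
    (g := (LinearMap.range u).mkQ.restrictScalars R)
    hi (LinearMap.exact_map_mkQ_range u) (LinearMap.range u).mkQ_surjective Q

/-- Such an element acts universally injectively on the localisation. -/
theorem univInj_localized [Algebra.FinitePresentation R S] [Module.FinitePresentation S N] [Module.Flat R N]
    (p : Ideal R) [p.IsPrime] (q : Ideal S) [q.IsPrime] [q.LiesOver p] (s : S)
    (hs : ∀ y : FlatCA.fiberMod p S N, s • y = 0 → ∃ t ∉ q, t • y = 0) :
    FlatCA.UnivInj R ((LinearMap.lsmul S (LocalizedModule q.primeCompl N) s).restrictScalars R) := by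
  classical
  have hpq : p = q.comap (algebraMap R S) := Ideal.LiesOver.over
  let R₁ := Localization.AtPrime p
  let S₁ := Localization.AtPrime q
  let N₁ := LocalizedModule q.primeCompl N
  letI : Algebra R₁ S₁ := (Localization.localRingHom p q (algebraMap R S) hpq).toAlgebra
  haveI : IsScalarTower R R₁ S₁ := IsScalarTower.of_algebraMap_eq fun x => by
    rw [IsScalarTower.algebraMap_apply R S S₁]
    exact (Localization.localRingHom_to_map p q (algebraMap R S) hpq x).symm
  haveI : IsLocalHom (algebraMap R₁ S₁) := Localization.isLocalHom_localRingHom p q (algebraMap R S) hpq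
  letI : Module R₁ N₁ := Module.compHom N₁ (algebraMap R₁ S₁)
  haveI : IsScalarTower R₁ S₁ N₁ := IsScalarTower.of_algebraMap_smul fun r x => rfl
  haveI : IsScalarTower R R₁ N₁ := IsScalarTower.of_algebraMap_smul fun r x => by
    show algebraMap R₁ S₁ (algebraMap R R₁ r) • x = r • x
    rw [← IsScalarTower.algebraMap_apply, IsScalarTower.algebraMap_apply R S S₁, algebraMap_smul, algebraMap_smul]
  haveI : Module.Flat R N₁ := flat_localizedModule N q.primeCompl
  haveI : Module.Flat R₁ N₁ := (Module.flat_iff_of_isLocalization R₁ p.primeCompl N₁).2 inferInstance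
  have hmap : (IsLocalRing.maximalIdeal R₁).map (algebraMap R₁ S₁) = p.map (algebraMap R S₁) := by
    rw [← Localization.AtPrime.map_eq_maximalIdeal, Ideal.map_map, ← IsScalarTower.algebraMap_eq]
  have hS₁ : CAlgX.IsEssFinitePresentation R₁ S₁ :=
    isEssFinitePresentation_of_comp (R := R) (S := R₁) (S' := S₁)
      ⟨R, inferInstance, inferInstance, inferInstance, inferInstance, p.primeCompl, inferInstance, inferInstance⟩
      ⟨S, inferInstance, inferInstance, inferInstance, inferInstance, q.primeCompl, inferInstance, inferInstance⟩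
  have key := univInj_of_local (R := R) (R₁ := R₁) (S₁ := S₁) (M₁ := N₁) (N₁ := N₁) p.primeCompl hS₁
    (LinearMap.lsmul S₁ N₁ (algebraMap S S₁ s))
    (fun x hx => by
      rw [hmap] at hx ⊢
      rw [LinearMap.lsmul_apply, algebraMap_smul] at hx
      exact mem_of_smul_mem N p q s hs hx)
  rw [show (LinearMap.lsmul S N₁ s).restrictScalars R = (LinearMap.lsmul S₁ N₁ (algebraMap S S₁ s)).restrictScalars R from
    LinearMap.ext fun x => (algebraMap_smul S₁ s x).symm]
  exact key

/-- A minimal prime over the annihilator of an element of `N ⊗ Q` is associated to a fibre. -/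
theorem exists_ass_fiber_of [Module.Finite S N]
    (Q : Type u) [AddCommGroup Q] [Module R Q] (z : N ⊗[R] Q) (p : Ideal R) [p.IsPrime] [IsNoetherianRing (p.Fiber S)]
    (q : Ideal S) [q.IsPrime] [q.LiesOver p]
    (hU : ∀ s : S, (∀ y : FlatCA.fiberMod p S N, s • y = 0 → ∃ t ∉ q, t • y = 0) →
      FlatCA.UnivInj R ((LinearMap.lsmul S (LocalizedModule q.primeCompl N) s).restrictScalars R))
    (hq : q ∈ (Submodule.span S {z}).annihilator.minimalPrimes) :
    ∃ r ∈ associatedPrimes (p.Fiber S) (FlatCA.fiberMod p S N),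
      r.comap (Algebra.TensorProduct.includeRight (R := R) (A := p.ResidueField) (B := S)).toRingHom = q := by
  classical
  by_contra hne
  push Not at hne
  obtain ⟨s, hsq, hs⟩ := exists_mem_regular_fibre N p q hne
  set I := (Submodule.span S {z}).annihilator
  obtain ⟨u, hu, k, hk⟩ : ∃ u ∉ q, ∃ k : ℕ, u * s ^ k ∈ I := by
    by_contra hcon
    push Not at hcon
    obtain ⟨P, hP, hIP, hPd⟩ := Ideal.exists_le_prime_disjoint I (q.primeCompl ⊔ Submonoid.powers s) (by
      rw [Set.disjoint_left]
      intro x hxI hxM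
      obtain ⟨u, hu, _, ⟨k, rfl⟩, rfl⟩ := Submonoid.mem_sup.1 hxM
      exact hcon u hu k hxI)
    have hPq : P ≤ q := fun t ht => by
      by_contra htq
      exact Set.disjoint_left.1 hPd ht (Submonoid.mem_sup_left htq)
    have hqP : q ≤ P := hq.2 ⟨hP, hIP⟩ hPq
    exact Set.disjoint_left.1 hPd (hqP hsq) (Submonoid.mem_sup_right (Submonoid.mem_powers s))
  let f := LocalizedModule.mkLinearMap q.primeCompl N
  let φ := AlgebraTensorModule.rTensor R Q f
  have hinj := hU s hs Q
  rw [LinearMap.lTensor_inj_iff_rTensor_inj] at hinj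
  have hLq : ∀ w : (LocalizedModule q.primeCompl N) ⊗[R] Q,
      ((LinearMap.lsmul S (LocalizedModule q.primeCompl N) s).restrictScalars R).rTensor Q w = s • w := by
    intro w
    induction w using TensorProduct.induction_on with
    | zero => simp
    | tmul n x => rw [smul_tmul']; rfl
    | add a b ha hb => rw [map_add, smul_add, ha, hb]
  have h0 : u • φ z = 0 := by
    have h1 : s ^ k • (u • φ z) = 0 := by
      rw [smul_smul, ← map_smul, mul_comm, Submodule.mem_annihilator.1 hk z (Submodule.mem_span_singleton_self z), map_zero]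
    clear hk
    induction k with
    | zero => rwa [pow_zero, one_smul] at h1
    | succ k ih =>
      refine ih ?_
      apply hinj
      rw [hLq, map_zero, smul_smul, ← pow_succ']
      exact h1
  rw [← map_smul] at h0
  obtain ⟨c, hc⟩ := (IsLocalizedModule.eq_zero_iff q.primeCompl φ).1 h0
  have hcI : (c : S) * u ∈ I := by
    refine Submodule.mem_annihilator.2 fun w hw => ?_
    obtain ⟨a, rfl⟩ := Submodule.mem_span_singleton.1 hw
    rw [smul_comm, mul_smul]
    exact (congrArg (a • ·) (hc : (c : S) • u • z = 0)).trans (smul_zero a)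
  exact q.primeCompl.mul_mem c.2 hu (hq.1.2 hcI)

/-- A minimal prime over the annihilator of an element of `N ⊗ Q` is associated to a fibre. -/
theorem exists_ass_fiber [Algebra.FinitePresentation R S] [Module.FinitePresentation S N] [Module.Flat R N]
    (Q : Type u) [AddCommGroup Q] [Module R Q] (z : N ⊗[R] Q) (p : Ideal R) [p.IsPrime] (q : Ideal S) [q.IsPrime]
    [q.LiesOver p] (hq : q ∈ (Submodule.span S {z}).annihilator.minimalPrimes) :
    ∃ r ∈ associatedPrimes (p.Fiber S) (FlatCA.fiberMod p S N),
      r.comap (Algebra.TensorProduct.includeRight (R := R) (A := p.ResidueField) (B := S)).toRingHom = q :=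
  haveI : IsNoetherianRing (p.Fiber S) := Algebra.FiniteType.isNoetherianRing p.ResidueField _
  exists_ass_fiber_of N Q z p q (fun s hs => univInj_localized N p q s hs) hq

end Groth.Agent.EssFPDescent
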