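import Groth.Agent.EssFPDescent.Criterion
import Groth.Prelude.Def_CAlgX

/-!
# The local criterion of flatness for modules over essentially finitely presented local algebras
-/

set_option autoImplicit false

universe u

open TensorProduct
attribute [local instance] Algebra.TensorProduct.rightAlgebra

noncomputable section

namespace Groth.Agent.EssFPDescent

/-- A presentation of a module over a local ring essentially of finite presentation, cleared of denominators. -/
theorem exists_presentation {R S : Type u} [CommRing R] [CommRing S] [IsLocalRing S] [Algebra R S]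
    (hS : CAlgX.IsEssFinitePresentation R S) (C : Type u) [AddCommGroup C] [Module S C]
    [Module.FinitePresentation S C] :
    ∃ (n a : ℕ) (φ : MvPolynomial (Fin n) R →ₐ[R] S) (g : Fin a → C) (B : Finset (Fin a → MvPolynomial (Fin n) R)),
      (∀ x : S, ∃ p w : MvPolynomial (Fin n) R, IsUnit (φ w) ∧ φ w * x = φ p) ∧
      Submodule.span S (Set.range g) = ⊤ ∧ (∀ β ∈ B, ∑ i, φ (β i) • g i = 0) ∧
      ∀ z : Fin a → MvPolynomial (Fin n) R, ∑ i, φ (z i) • g i = 0 →
        ∃ w : MvPolynomial (Fin n) R, IsUnit (φ w) ∧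
          w • z ∈ Submodule.span (MvPolynomial (Fin n) R) (B : Set (Fin a → MvPolynomial (Fin n) R)) := by
  classical
  obtain ⟨S₀, _, _, _, _, M, hfp, hloc⟩ := hS
  obtain ⟨n, φ₀, hφ₀, sI, hsI⟩ := Algebra.FinitePresentation.out (R := R) (A := S₀)
  let φ : MvPolynomial (Fin n) R →ₐ[R] S := (IsScalarTower.toAlgHom R S₀ S).comp φ₀
  have hφ : ∀ p, φ p = algebraMap S₀ S (φ₀ p) := fun p => rfl
  have hfrac : ∀ x : S, ∃ p w : MvPolynomial (Fin n) R, IsUnit (φ w) ∧ φ w * x = φ p := by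
    intro x
    obtain ⟨⟨c, m⟩, hcm⟩ := IsLocalization.surj M x
    obtain ⟨p, rfl⟩ := hφ₀ c
    obtain ⟨w, hw⟩ := hφ₀ (m : S₀)
    refine ⟨p, w, ?_, ?_⟩
    · rw [hφ, hw]; exact IsLocalization.map_units S m
    · rw [hφ, hφ, hw, mul_comm]; exact hcm
  have hzero : ∀ p, φ p = 0 → ∃ w, IsUnit (φ w) ∧ w * p ∈ RingHom.ker φ₀.toRingHom := by
    intro p hp
    obtain ⟨m, hm⟩ := (IsLocalization.map_eq_zero_iff M S _).1 hp
    obtain ⟨w, hw⟩ := hφ₀ (m : S₀)
    refine ⟨w, by rw [hφ, hw]; exact IsLocalization.map_units S m, ?_⟩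
    rw [RingHom.mem_ker]
    show φ₀ (w * p) = 0
    rw [map_mul, hw]
    exact hm
  obtain ⟨a, π, hπ⟩ := Module.Finite.exists_fin' S C
  let g : Fin a → C := fun i => π (Pi.single i 1)
  have hπg : ∀ v, π v = ∑ i, v i • g i := by
    intro v
    rw [LinearMap.pi_apply_eq_sum_univ π v]
    refine Finset.sum_congr rfl fun i _ => ?_
    congr 2
    funext j
    simp [Pi.single_apply, eq_comm]
  obtain ⟨sK, hsK⟩ := Module.FinitePresentation.fg_ker π hπ
  have hclear : ∀ k : Fin a → S, ∃ (β : Fin a → MvPolynomial (Fin n) R) (w : MvPolynomial (Fin n) R),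
      IsUnit (φ w) ∧ ∀ i, φ (β i) = φ w * k i := by
    intro k
    choose p w hw hpw using fun i => hfrac (k i)
    refine ⟨fun i => p i * ∏ j ∈ Finset.univ.erase i, w j, ∏ i, w i, ?_, fun i => ?_⟩
    · rw [map_prod]; exact Finset.prod_induction _ IsUnit (fun _ _ => IsUnit.mul) isUnit_one fun i _ => hw i
    · rw [← Finset.mul_prod_erase _ _ (Finset.mem_univ i), map_mul, map_mul, ← hpw]
      ring
  choose β wβ hwβ hβ using hclear
  let B : Finset (Fin a → MvPolynomial (Fin n) R) :=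
    sK.image β ∪ (Finset.univ ×ˢ sI).image fun q => Pi.single q.1 q.2
  refine ⟨n, a, φ, g, B, hfrac, ?_, ?_, ?_⟩
  · rw [eq_top_iff]
    intro c _
    obtain ⟨v, rfl⟩ := hπ c
    rw [hπg]
    exact Submodule.sum_mem _ fun i _ => Submodule.smul_mem _ _ (Submodule.subset_span ⟨i, rfl⟩)
  · intro b hb
    rcases Finset.mem_union.1 hb with hb | hb
    · obtain ⟨k, hk, rfl⟩ := Finset.mem_image.1 hb
      have hk0 : π k = 0 := LinearMap.mem_ker.1 (hsK ▸ Submodule.subset_span hk)
      simp only [hβ, mul_smul, ← Finset.smul_sum, ← hπg, hk0, smul_zero]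
    · obtain ⟨⟨i, f⟩, hf, rfl⟩ := Finset.mem_image.1 hb
      have hf0 : φ₀ f = 0 := by
        have : f ∈ RingHom.ker φ₀.toRingHom := hsI ▸ Submodule.subset_span (Finset.mem_product.1 hf).2
        exact this
      refine Finset.sum_eq_zero fun j _ => ?_
      rcases eq_or_ne j i with rfl | hji
      · rw [Pi.single_eq_same, hφ, hf0, map_zero, zero_smul]
      · rw [Pi.single_eq_of_ne hji, map_zero, zero_smul]
  intro z hz
  -- `φ ∘ z` is a combination of the scaled relations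
  have hker : (fun i => φ (z i)) ∈ Submodule.span S (sK : Set (Fin a → S)) := by
    rw [hsK, LinearMap.mem_ker, hπg]; exact hz
  let N : Submodule (MvPolynomial (Fin n) R) (Fin a → MvPolynomial (Fin n) R) := Submodule.span _ (B : Set _)
  have hI : ∀ z' : Fin a → MvPolynomial (Fin n) R, (∀ i, z' i ∈ RingHom.ker φ₀.toRingHom) → z' ∈ N := by
    intro z' hz'
    rw [← Finset.univ_sum_single z']
    refine Submodule.sum_mem _ fun i _ => ?_
    have : z' i ∈ Submodule.span _ (sI : Set (MvPolynomial (Fin n) R)) := hsI.symm ▸ hz' i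
    have h2 := Submodule.mem_map_of_mem (f := LinearMap.single (MvPolynomial (Fin n) R) (fun _ => MvPolynomial (Fin n) R) i) this
    rw [Submodule.map_span] at h2
    refine Submodule.span_le.2 ?_ h2
    rintro _ ⟨f, hf, rfl⟩
    exact Submodule.subset_span (Finset.mem_union_right _ (Finset.mem_image.2 ⟨(i, f), Finset.mem_product.2 ⟨Finset.mem_univ _, hf⟩, rfl⟩))
  have hcomb : ∀ k ∈ Submodule.span S (sK : Set (Fin a → S)),
      ∃ (v : Fin a → MvPolynomial (Fin n) R) (w : MvPolynomial (Fin n) R),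
        v ∈ N ∧ IsUnit (φ w) ∧ ∀ i, φ (v i) = φ w * k i := by
    intro k hk
    induction hk using Submodule.span_induction with
    | mem k hk =>
      exact ⟨β k, wβ k, Submodule.subset_span (Finset.mem_union_left _ (Finset.mem_image_of_mem _ hk)), hwβ k, hβ k⟩
    | zero => exact ⟨0, 1, zero_mem _, by rw [map_one]; exact isUnit_one, fun i => by simp⟩
    | add x y _ _ hx hy =>
      obtain ⟨v, w, hv, hw, e⟩ := hx
      obtain ⟨v', w', hv', hw', e'⟩ := hy
      refine ⟨w' • v + w • v', w * w', add_mem (N.smul_mem _ hv) (N.smul_mem _ hv'), by rw [map_mul]; exact hw.mul hw', fun i => ?_⟩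
      simp only [Pi.add_apply, Pi.smul_apply, smul_eq_mul, map_add, map_mul, e, e']
      ring
    | smul c x _ hx =>
      obtain ⟨v, w, hv, hw, e⟩ := hx
      obtain ⟨p, w', hw', hp⟩ := hfrac c
      refine ⟨p • v, w' * w, N.smul_mem _ hv, by rw [map_mul]; exact hw'.mul hw, fun i => ?_⟩
      simp only [Pi.smul_apply, smul_eq_mul, map_mul, e, ← hp]
      ring
  obtain ⟨v, w, hv, hw, e⟩ := hcomb _ hker
  have hd : ∀ i, φ ((w • z - v) i) = 0 := fun i => by
    simp only [Pi.sub_apply, Pi.smul_apply, smul_eq_mul, map_sub, map_mul, e, sub_self]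
  choose u hu hu' using fun i => hzero _ (hd i)
  refine ⟨(∏ i, u i) * w, ?_, ?_⟩
  · rw [map_mul, map_prod]
    exact (Finset.prod_induction _ IsUnit (fun _ _ => IsUnit.mul) isUnit_one fun i _ => hu i).mul hw
  · have h1 : (∏ i, u i) • (w • z - v) ∈ N := by
      refine hI _ fun i => ?_
      rw [Pi.smul_apply, smul_eq_mul, ← Finset.prod_erase_mul _ _ (Finset.mem_univ i), mul_assoc]
      exact Ideal.mul_mem_left _ _ (hu' i)
    have h2 := add_mem h1 (N.smul_mem (∏ i, u i) hv)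
    rwa [smul_sub, sub_add_cancel, smul_smul] at h2

section Model

variable {R₀ : Type u} [CommRing R₀] {T₀ : Type u} [CommRing T₀] [Algebra R₀ T₀]
  {C₀ : Type u} [AddCommGroup C₀] [Module R₀ C₀] [Module T₀ C₀] [IsScalarTower R₀ T₀ C₀]
  {R : Type u} [CommRing R] [Algebra R₀ R]

/-- `C₀ ⊗ R → C` from `C₀ → C`. -/
theorem exists_modelMap {S : Type u} [CommRing S] (ψ : T₀ ⊗[R₀] R →+* S) {C : Type u} [AddCommGroup C] [Module S C]
    (π₀ : C₀ →+ C) (hπ₀ : ∀ (t : T₀) (c : C₀), π₀ (t • c) = ψ (t ⊗ₜ 1) • π₀ c) :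
    ∃ Φ : CT (R₀ := R₀) T₀ C₀ R →+ C,
      (∀ c : C₀, Φ (emb T₀ C₀ c) = π₀ c) ∧ ∀ s x, Φ (s • x) = ψ s • Φ x := by
  let Φ : C₀ ⊗[R₀] R →+ C := TensorProduct.liftAddHom
    { toFun := fun c => { toFun := fun r => ψ ((1 : T₀) ⊗ₜ r) • π₀ c
                          map_zero' := by rw [TensorProduct.tmul_zero, map_zero, zero_smul]
                          map_add' := fun r r' => by rw [TensorProduct.tmul_add, map_add, add_smul] }
      map_zero' := AddMonoidHom.ext fun r => by simp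
      map_add' := fun c c' => AddMonoidHom.ext fun r => by simp [smul_add] }
    fun q c r => by
      show ψ ((1 : T₀) ⊗ₜ[R₀] r) • π₀ (q • c) = ψ ((1 : T₀) ⊗ₜ[R₀] (q • r)) • π₀ c
      rw [show q • c = algebraMap R₀ T₀ q • c from (algebraMap_smul T₀ q c).symm, hπ₀, smul_smul, ← map_mul,
        Algebra.TensorProduct.tmul_mul_tmul, one_mul, mul_one, Algebra.algebraMap_eq_smul_one, TensorProduct.smul_tmul]
  refine ⟨Φ, fun c => ?_, fun s x => ?_⟩
  · show ψ ((1 : T₀) ⊗ₜ[R₀] (1 : R)) • π₀ c = π₀ c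
    rw [← Algebra.TensorProduct.one_def, map_one, one_smul]
  · change C₀ ⊗[R₀] R at x
    show Φ (ρ T₀ C₀ R R s x) = ψ s • Φ x
    induction s using TensorProduct.induction_on with
    | zero => simp only [map_zero, LinearMap.zero_apply, zero_smul]
    | add a b ha hb => simp only [map_add, LinearMap.add_apply, add_smul, ha, hb]
    | tmul t r =>
      induction x using TensorProduct.induction_on with
      | zero => simp only [map_zero, smul_zero]
      | add a b ha hb => simp only [map_add, smul_add, ha, hb]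
      | tmul c r' =>
        rw [ρ_tmul]
        show ψ ((1 : T₀) ⊗ₜ[R₀] (r • r')) • π₀ (t • c) = ψ (t ⊗ₜ[R₀] r) • ψ ((1 : T₀) ⊗ₜ[R₀] r') • π₀ c
        rw [hπ₀, smul_smul, smul_smul, ← map_mul, ← map_mul, Algebra.TensorProduct.tmul_mul_tmul,
          Algebra.TensorProduct.tmul_mul_tmul, smul_eq_mul]
        simp

theorem tmul_one_smul_emb (t : T₀) (c : C₀) :
    (t ⊗ₜ[R₀] (1 : R)) • emb (R₀ := R₀) T₀ C₀ (A := R) c = emb (R₀ := R₀) T₀ C₀ (A := R) (t • c) := by
  show ρ T₀ C₀ R R (t ⊗ₜ[R₀] (1 : R)) (c ⊗ₜ[R₀] (1 : R)) = _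
  rw [ρ_tmul, one_smul]
  rfl

theorem exists_eq_sum_smul {a : ℕ} (v : Fin a → C₀) (hv : Submodule.span T₀ (Set.range v) = ⊤)
    (x : CT (R₀ := R₀) T₀ C₀ R) : ∃ z : Fin a → T₀ ⊗[R₀] R, x = ∑ i, z i • emb T₀ C₀ (v i) := by
  suffices h : x ∈ Submodule.span (T₀ ⊗[R₀] R) (Set.range fun i => emb T₀ C₀ (A := R) (v i)) by
    obtain ⟨z, hz⟩ := (Submodule.mem_span_range_iff_exists_fun _).1 h
    exact ⟨z, hz.symm⟩
  revert x
  suffices h : ∀ x : C₀ ⊗[R₀] R, toCT (R₀ := R₀) T₀ C₀ (A := R) x ∈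
      Submodule.span (T₀ ⊗[R₀] R) (Set.range fun i => emb T₀ C₀ (A := R) (v i)) from fun x => h x
  intro x
  induction x using TensorProduct.induction_on with
  | zero => exact Submodule.zero_mem _
  | add a b ha hb => exact Submodule.add_mem _ ha hb
  | tmul c r =>
    have hc : c ∈ Submodule.span T₀ (Set.range v) := hv ▸ Submodule.mem_top
    obtain ⟨z, hz⟩ := (Submodule.mem_span_range_iff_exists_fun _).1 hc
    have he : toCT (R₀ := R₀) T₀ C₀ (A := R) (c ⊗ₜ[R₀] r) = ∑ i, (z i ⊗ₜ[R₀] r) • emb T₀ C₀ (A := R) (v i) := by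
      let T : C₀ ⊗[R₀] R →+ CT (R₀ := R₀) T₀ C₀ R := AddMonoidHom.mk' (toCT (R₀ := R₀) T₀ C₀ (A := R)) fun _ _ => rfl
      show T (c ⊗ₜ[R₀] r) = _
      rw [← hz, TensorProduct.sum_tmul, map_sum]
      refine Finset.sum_congr rfl fun i _ => ?_
      show toCT (R₀ := R₀) T₀ C₀ (A := R) ((z i • v i) ⊗ₜ[R₀] r) = ρ T₀ C₀ R R (z i ⊗ₜ[R₀] r) (v i ⊗ₜ[R₀] (1 : R))
      rw [ρ_tmul, smul_eq_mul, mul_one]
      rfl
    rw [he]
    exact Submodule.sum_mem _ fun i _ => Submodule.smul_mem _ _ (Submodule.subset_span ⟨i, rfl⟩)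

end Model

/-- The criterion for a presentation with coefficients in a Noetherian ring. -/
theorem flat_of_model (R₀ : Type u) [CommRing R₀] [IsNoetherianRing R₀] {R S : Type u} [CommRing R] [Algebra R₀ R]
    [CommRing S] [IsLocalRing R] [IsLocalRing S] [Algebra R S] [IsLocalHom (algebraMap R S)]
    (C : Type u) [AddCommGroup C] [Module S C] [Module R C] [IsScalarTower R S C]
    {n a : ℕ} (φ : MvPolynomial (Fin n) R →ₐ[R] S) (g : Fin a → C) (B : Finset (Fin a → MvPolynomial (Fin n) R))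
    (hfrac : ∀ x : S, ∃ p w : MvPolynomial (Fin n) R, IsUnit (φ w) ∧ φ w * x = φ p)
    (hspan : Submodule.span S (Set.range g) = ⊤) (hB : ∀ β ∈ B, ∑ i, φ (β i) • g i = 0)
    (hrel : ∀ z : Fin a → MvPolynomial (Fin n) R, ∑ i, φ (z i) • g i = 0 →
      ∃ w : MvPolynomial (Fin n) R, IsUnit (φ w) ∧
        w • z ∈ Submodule.span (MvPolynomial (Fin n) R) (B : Set (Fin a → MvPolynomial (Fin n) R)))
    (b₀ : B → Fin a → MvPolynomial (Fin n) R₀)
    (hb₀ : ∀ β i, MvPolynomial.map (algebraMap R₀ R) (b₀ β i) = β.1 i)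
    (h : ∀ y : C ⊗[R] IsLocalRing.maximalIdeal R,
      (IsLocalRing.maximalIdeal R).subtype.lTensor C y = 0 → y = 0) : Module.Flat R C := by
  classical
  let T₀ := MvPolynomial (Fin n) R₀
  let e₁ : T₀ ⊗[R₀] R ≃ₐ[R₀] R ⊗[R₀] T₀ := Algebra.TensorProduct.comm R₀ T₀ R
  let e₂ : R ⊗[R₀] T₀ ≃ₐ[R] MvPolynomial (Fin n) R := MvPolynomial.algebraTensorAlgEquiv R₀ R
  let e : T₀ ⊗[R₀] R ≃+* MvPolynomial (Fin n) R := e₁.toRingEquiv.trans e₂.toRingEquiv
  have he : ∀ t : T₀, e (t ⊗ₜ 1) = MvPolynomial.map (algebraMap R₀ R) t := fun t => by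
    show MvPolynomial.algebraTensorAlgEquiv R₀ R ((1 : R) ⊗ₜ[R₀] t) = _
    rw [MvPolynomial.algebraTensorAlgEquiv_tmul, one_smul]
  let K₀ : Submodule T₀ (Fin a → T₀) := Submodule.span T₀ (Set.range fun β : B => b₀ β)
  let C₀ := (Fin a → T₀) ⧸ K₀
  let ψ : T₀ ⊗[R₀] R →+* S := φ.toRingHom.comp e.toRingHom
  let π' : (Fin a → T₀) →+ C :=
    { toFun := fun v => ∑ i, ψ (v i ⊗ₜ 1) • g i
      map_zero' := by simp
      map_add' := fun v w => by simp [TensorProduct.add_tmul, add_smul, Finset.sum_add_distrib] }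
  have hπ'smul : ∀ (t : T₀) (v : Fin a → T₀), π' (t • v) = ψ (t ⊗ₜ 1) • π' v := by
    intro t v
    show ∑ i, ψ ((t * v i) ⊗ₜ[R₀] (1 : R)) • g i = ψ (t ⊗ₜ[R₀] (1 : R)) • ∑ i, ψ (v i ⊗ₜ[R₀] (1 : R)) • g i
    rw [Finset.smul_sum]
    refine Finset.sum_congr rfl fun i _ => ?_
    rw [smul_smul, ← map_mul, Algebra.TensorProduct.tmul_mul_tmul, mul_one]
  have hK : K₀.toAddSubgroup ≤ π'.ker := by
    intro v hv
    refine Submodule.span_induction ?_ (map_zero π') (fun x y _ _ hx hy => ?_) (fun t x _ hx => ?_) hv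
    · rintro _ ⟨β, rfl⟩
      show ∑ i, φ (e (b₀ β i ⊗ₜ 1)) • g i = 0
      simp only [he, hb₀]
      exact hB β.1 β.2
    · show π' (x + y) = 0
      rw [map_add, show π' x = 0 from hx, show π' y = 0 from hy, add_zero]
    · show π' (t • x) = 0
      rw [hπ'smul, show π' x = 0 from hx, smul_zero]
  let π₀ : C₀ →+ C := QuotientAddGroup.lift K₀.toAddSubgroup π' hK
  have hπ₀ : ∀ (t : T₀) (x : C₀), π₀ (t • x) = ψ (t ⊗ₜ 1) • π₀ x := by
    intro t x
    induction x using Submodule.Quotient.induction_on with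
    | _ v => exact hπ'smul t v
  obtain ⟨Φ, hΦe, hΦs⟩ := exists_modelMap (R := R) ψ π₀ hπ₀
  letI : Algebra (T₀ ⊗[R₀] R) S := ψ.toAlgebra
  letI : Module (T₀ ⊗[R₀] R) C := Module.compHom C ψ
  haveI : IsScalarTower R (T₀ ⊗[R₀] R) C := IsScalarTower.of_algebraMap_smul fun r x => by
    show ψ ((1 : T₀) ⊗ₜ[R₀] r) • x = r • x
    rw [← algebraMap_smul S r x]
    congr 1
    show φ (MvPolynomial.algebraTensorAlgEquiv R₀ R (r ⊗ₜ[R₀] (1 : T₀))) = _
    rw [MvPolynomial.algebraTensorAlgEquiv_tmul, map_one, map_smul, map_one, Algebra.algebraMap_eq_smul_one]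
  let ΦL : CT (R₀ := R₀) T₀ C₀ R →ₗ[T₀ ⊗[R₀] R] C := { toFun := Φ, map_add' := Φ.map_add, map_smul' := hΦs }
  let Q : Ideal (T₀ ⊗[R₀] R) := (IsLocalRing.maximalIdeal S).comap ψ
  haveI : Q.IsPrime := Ideal.IsPrime.comap _
  have hQu : ∀ s, s ∈ Q.primeCompl ↔ IsUnit (ψ s) := fun s => IsLocalRing.notMem_maximalIdeal
  let v : Fin a → C₀ := fun i => Submodule.Quotient.mk (Pi.single i 1)
  have hΦv : ∀ i, Φ (emb T₀ C₀ (v i)) = g i := by
    intro i
    rw [hΦe]
    show ∑ j, ψ ((Pi.single i (1 : T₀) : Fin a → T₀) j ⊗ₜ[R₀] (1 : R)) • g j = g i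
    rw [Finset.sum_eq_single i (fun j _ hj => by rw [Pi.single_eq_of_ne hj, TensorProduct.zero_tmul, map_zero, zero_smul])
      (fun h => absurd (Finset.mem_univ i) h), Pi.single_eq_same, ← Algebra.TensorProduct.one_def, map_one, one_smul]
  haveI : IsLocalizedModule Q.primeCompl ΦL := by
    refine ⟨fun s => ?_, fun y => ?_, fun {x y} hxy => ?_⟩
    · obtain ⟨u, hu⟩ := (hQu s).1 s.2
      refine (Module.End.isUnit_iff _).2 (Function.bijective_iff_has_inverse.2 ⟨fun x => (↑u⁻¹ : S) • x, fun x => ?_, fun x => ?_⟩)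
      · show (↑u⁻¹ : S) • ψ (s : T₀ ⊗[R₀] R) • x = x
        rw [smul_smul, ← hu, Units.inv_mul, one_smul]
      · show ψ (s : T₀ ⊗[R₀] R) • (↑u⁻¹ : S) • x = x
        rw [smul_smul, ← hu, Units.mul_inv, one_smul]
    · have hy : y ∈ Submodule.span S (Set.range g) := hspan ▸ Submodule.mem_top
      obtain ⟨s, rfl⟩ := (Submodule.mem_span_range_iff_exists_fun _).1 hy
      choose p w hw hpw using fun i => hfrac (s i)
      let W : MvPolynomial (Fin n) R := ∏ i, w i
      have hW : IsUnit (ψ (e.symm W)) := by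
        show IsUnit (φ (e (e.symm W)))
        rw [e.apply_symm_apply, map_prod]
        exact Finset.prod_induction _ IsUnit (fun _ _ => IsUnit.mul) isUnit_one fun i _ => hw i
      refine ⟨⟨∑ i, e.symm (p i * ∏ j ∈ Finset.univ.erase i, w j) • emb T₀ C₀ (v i),
        ⟨e.symm W, (hQu _).2 hW⟩⟩, ?_⟩
      show ψ (e.symm W) • ∑ i, s i • g i = Φ _
      rw [map_sum, Finset.smul_sum]
      refine Finset.sum_congr rfl fun i _ => ?_
      rw [hΦs, hΦv, smul_smul]
      congr 1
      show φ (e (e.symm W)) * s i = φ (e (e.symm _))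
      rw [e.apply_symm_apply, e.apply_symm_apply, map_mul, ← hpw,
        show W = w i * ∏ j ∈ Finset.univ.erase i, w j from (Finset.mul_prod_erase _ _ (Finset.mem_univ i)).symm, map_mul]
      ring
    · obtain ⟨z, hz⟩ := exists_eq_sum_smul v (by
        rw [eq_top_iff]
        rintro x -
        induction x using Submodule.Quotient.induction_on with
        | _ f =>
          rw [show (Submodule.Quotient.mk f : C₀) = ∑ i, f i • v i from by
            show K₀.mkQ f = ∑ i, f i • K₀.mkQ (Pi.single i 1)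
            simp only [← map_smul, ← map_sum]
            congr 1
            exact pi_eq_sum_univ' f]
          exact Submodule.sum_mem _ fun i _ => Submodule.smul_mem _ _ (Submodule.subset_span ⟨i, rfl⟩)) (x - y)
      have h0 : ∑ i, φ (e (z i)) • g i = 0 := by
        have h1 : Φ (x - y) = 0 := by rw [map_sub]; exact sub_eq_zero.2 hxy
        rw [hz, map_sum] at h1
        rw [← h1]
        exact Finset.sum_congr rfl fun i _ => by rw [hΦs, hΦv]; rfl
      obtain ⟨w, hw, hwz⟩ := hrel (fun i => e (z i)) h0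
      have hwu : IsUnit (ψ (e.symm w)) := by
        show IsUnit (φ (e (e.symm w)))
        rw [e.apply_symm_apply]; exact hw
      refine ⟨⟨e.symm w, (hQu _).2 hwu⟩, ?_⟩
      show e.symm w • x = e.symm w • y
      rw [← sub_eq_zero, ← smul_sub, hz, Finset.smul_sum]
      let E : (Fin a → MvPolynomial (Fin n) R) →+ CT (R₀ := R₀) T₀ C₀ R :=
        { toFun := fun f => ∑ i, e.symm (f i) • emb T₀ C₀ (v i)
          map_zero' := Finset.sum_eq_zero fun i _ => by rw [Pi.zero_apply, map_zero]; exact zero_smul (T₀ ⊗[R₀] R) (emb (R₀ := R₀) T₀ C₀ (A := R) (v i))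
          map_add' := fun f f' => by simp [add_smul, Finset.sum_add_distrib] }
      have hE0 : ∀ f ∈ Submodule.span (MvPolynomial (Fin n) R) (B : Set (Fin a → MvPolynomial (Fin n) R)), E f = 0 := by
        intro f hf
        refine Submodule.span_induction ?_ (map_zero E) (fun x y _ _ hx hy => by rw [map_add, hx, hy, add_zero])
          (fun p x _ hx => ?_) hf
        · intro β hβ
          show ∑ i, e.symm (β i) • emb T₀ C₀ (v i) = 0
          have hterm : ∀ i, e.symm (β i) • emb T₀ C₀ (A := R) (v i) = emb T₀ C₀ (b₀ ⟨β, hβ⟩ i • v i) := fun i => by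
            rw [show e.symm (β i) = b₀ ⟨β, hβ⟩ i ⊗ₜ[R₀] (1 : R) from e.symm_apply_eq.2 ((he _).trans (hb₀ ⟨β, hβ⟩ i)).symm]
            exact tmul_one_smul_emb _ _
          rw [Finset.sum_congr rfl fun i _ => hterm i, ← map_sum,
            show ∑ i, b₀ ⟨β, hβ⟩ i • v i = 0 from by
              show ∑ i, b₀ ⟨β, hβ⟩ i • K₀.mkQ (Pi.single i 1) = 0
              simp only [← map_smul, ← map_sum]
              rw [← pi_eq_sum_univ' (b₀ ⟨β, hβ⟩)]
              exact (Submodule.Quotient.mk_eq_zero _).2 (Submodule.subset_span ⟨⟨β, hβ⟩, rfl⟩), map_zero]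
        · show ∑ i, e.symm (p * x i) • emb T₀ C₀ (v i) = 0
          calc ∑ i, e.symm (p * x i) • emb T₀ C₀ (A := R) (v i) = ∑ i, e.symm p • (e.symm (x i) • emb T₀ C₀ (A := R) (v i)) :=
                Finset.sum_congr rfl fun i _ => by rw [map_mul, mul_smul]
            _ = e.symm p • E x := Finset.smul_sum.symm
            _ = 0 := by rw [hx, smul_zero]
      refine Eq.trans ?_ (hE0 _ hwz)
      refine Finset.sum_congr rfl fun i _ => ?_
      rw [smul_smul, Pi.smul_apply, smul_eq_mul, map_mul, e.symm_apply_apply]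
  haveI : Module.Finite T₀ C₀ := inferInstance
  have hk : Killed T₀ C₀ (IsLocalRing.maximalIdeal R) Q.primeCompl := by
    refine (killed_iff T₀ C₀ _ _).2 fun y hy => ?_
    let φm := AlgebraTensorModule.rTensor R (IsLocalRing.maximalIdeal R : Ideal R) ΦL
    have h1 : φm y = 0 := h _ (by
      show (IsLocalRing.maximalIdeal R).subtype.lTensor C ((ΦL.restrictScalars R).rTensor _ y) = 0
      rw [← LinearMap.comp_apply, LinearMap.lTensor_comp_rTensor, ← LinearMap.rTensor_comp_lTensor,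
        LinearMap.comp_apply, hy, map_zero])
    obtain ⟨s, hs⟩ := (IsLocalizedModule.eq_zero_iff Q.primeCompl φm).1 h1
    exact ⟨s, s.2, hs⟩
  have hQm : (IsLocalRing.maximalIdeal R).map (algebraMap R _) ≤ Q := by
    refine Ideal.map_le_iff_le_comap.2 fun r hr => ?_
    show ψ ((1 : T₀) ⊗ₜ[R₀] r) ∈ IsLocalRing.maximalIdeal S
    rw [show ψ ((1 : T₀) ⊗ₜ[R₀] r) = algebraMap R S r from by
      show φ (MvPolynomial.algebraTensorAlgEquiv R₀ R (r ⊗ₜ[R₀] (1 : T₀))) = _
      rw [MvPolynomial.algebraTensorAlgEquiv_tmul, map_one, map_smul, map_one, Algebra.algebraMap_eq_smul_one]]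
    exact map_nonunit _ r hr
  haveI := flat_localized T₀ C₀ Q hQm hk
  exact Module.Flat.of_linearEquiv ((IsLocalizedModule.iso Q.primeCompl ΦL).restrictScalars R).symm

/-- The local criterion of flatness: `Tor₁(C, k) = 0` gives flatness. -/
theorem flat_of_essFP {R S : Type u} [CommRing R] [CommRing S] [IsLocalRing R] [IsLocalRing S] [Algebra R S]
    [IsLocalHom (algebraMap R S)] (hS : CAlgX.IsEssFinitePresentation R S)
    (C : Type u) [AddCommGroup C] [Module S C] [Module R C] [IsScalarTower R S C] [Module.FinitePresentation S C]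
    (h : ∀ y : C ⊗[R] IsLocalRing.maximalIdeal R,
      (IsLocalRing.maximalIdeal R).subtype.lTensor C y = 0 → y = 0) : Module.Flat R C := by
  classical
  obtain ⟨n, a, φ, g, B, hfrac, hspan, hB, hrel⟩ := exists_presentation hS C
  let c : Finset R := B.biUnion fun β => Finset.univ.biUnion fun i => (β i).coeffs
  let R₀ : Subalgebra ℤ R := Algebra.adjoin ℤ (c : Set R)
  haveI : Algebra.FiniteType ℤ R₀ := (Subalgebra.fg_iff_finiteType R₀).1 (Subalgebra.fg_adjoin_finset c)
  haveI : IsNoetherianRing R₀ := Algebra.FiniteType.isNoetherianRing ℤ R₀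
  have hdesc : ∀ β : B, ∀ i, ∃ b : MvPolynomial (Fin n) R₀, MvPolynomial.map (algebraMap R₀ R) b = β.1 i := fun β i =>
    MvPolynomial.mem_range_map_iff_coeffs_subset.2 fun x hx =>
      ⟨⟨x, Algebra.subset_adjoin (Finset.mem_biUnion.2 ⟨β.1, β.2, Finset.mem_biUnion.2 ⟨i, Finset.mem_univ _, hx⟩⟩)⟩, rfl⟩
  choose b₀ hb₀ using hdesc
  exact flat_of_model R₀ C φ g B hfrac hspan hB hrel b₀ hb₀ h

end Groth.Agent.EssFPDescent
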