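import Groth.Agent.EssFPDescent.Model
import Groth.Agent.FlatModel.Open
import Groth.Agent.FlatSyz5.Basic

/-!
# Relations of a flat module over an essentially finitely presented local algebra
-/

set_option autoImplicit false
set_option backward.isDefEq.respectTransparency false

universe u

noncomputable section

namespace Groth.Agent.EssFPDescent

section Clearing

variable {A : Type u} [CommRing A] (W : Submonoid A) (T : Type u) [CommRing T] [Algebra A T]
  {a b : ℕ} (k : Fin b → Fin a → A)

/-- Images of vectors. -/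
def imv (c : ℕ) : (Fin c → A) →ₗ[A] (Fin c → T) := (Algebra.linearMap A T).compLeft (Fin c)

/-- The relation map after a change of rings. -/
def relMap : (Fin b → T) →ₗ[T] (Fin a → T) := Fintype.linearCombination T fun j => imv T a (k j)

theorem relMap_imv (y : Fin b → A) : relMap T k (imv T b y) = imv T a (Fintype.linearCombination A k y) := by
  funext i
  simp [relMap, imv, Fintype.linearCombination_apply, Finset.sum_apply, map_sum, map_mul, Algebra.smul_def]

variable [IsLocalization W T]

include W in
theorem exists_smul_eq_imv {c : ℕ} (x : Fin c → T) : ∃ w ∈ W, ∃ x' : Fin c → A, w • x = imv T c x' := by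
  obtain ⟨w, hw⟩ := IsLocalization.exist_integer_multiples_of_finite W x
  choose x' hx' using hw
  exact ⟨w, w.2, x', funext fun i => (hx' i).symm⟩

include W in
theorem exists_smul_eq_zero {c : ℕ} (x : Fin c → A) (hx : imv T c x = 0) : ∃ w ∈ W, w • x = 0 := by
  choose w hw using fun i => (IsLocalization.map_eq_zero_iff W T (x i)).1 (congrFun hx i)
  refine ⟨∏ i, (w i : A), prod_mem fun i _ => (w i).2, funext fun i => ?_⟩
  rw [Pi.smul_apply, smul_eq_mul, ← Finset.prod_erase_mul _ _ (Finset.mem_univ i), mul_assoc, hw i, mul_zero,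
    Pi.zero_apply]

include W in
theorem smul_mem_range_of_imv_mem {x : Fin a → A} (hx : imv T a x ∈ LinearMap.range (relMap T k)) :
    ∃ w ∈ W, w • x ∈ LinearMap.range (Fintype.linearCombination A k) := by
  obtain ⟨y, hy⟩ := hx
  obtain ⟨w, hw, y', hy'⟩ := exists_smul_eq_imv W T y
  obtain ⟨w', hw', h⟩ := exists_smul_eq_zero W T (w • x - Fintype.linearCombination A k y') (by
    rw [map_sub, map_smul, ← relMap_imv, ← hy', LinearMap.map_smul_of_tower, hy, sub_self])
  refine ⟨w' * w, mul_mem hw' hw, w' • y', ?_⟩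
  rw [map_smul, mul_smul]
  exact (sub_eq_zero.1 (by rw [← smul_sub]; exact h)).symm

include W in
theorem mem_range_relMap_iff {x : Fin a → T} :
    x ∈ LinearMap.range (relMap T k) ↔ ∃ w ∈ W, ∃ x' ∈ LinearMap.range (Fintype.linearCombination A k),
      w • x = imv T a x' := by
  constructor
  · rintro ⟨y, rfl⟩
    obtain ⟨w, hw, y', hy'⟩ := exists_smul_eq_imv W T y
    exact ⟨w, hw, _, ⟨y', rfl⟩, by rw [← LinearMap.map_smul_of_tower, hy', relMap_imv]⟩
  · rintro ⟨w, hw, _, ⟨y', rfl⟩, h⟩
    obtain ⟨u, hu⟩ := IsLocalization.map_units T ⟨w, hw⟩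
    refine ⟨(↑u⁻¹ : T) • imv T b y', ?_⟩
    rw [map_smul, relMap_imv, ← h, ← algebraMap_smul T w x, smul_smul, ← hu, Units.inv_mul, one_smul]

include W in
theorem ker_relMap_le : LinearMap.ker (relMap T k) ≤
    Submodule.span T (imv T b '' (LinearMap.ker (Fintype.linearCombination A k) : Set (Fin b → A))) := by
  intro x hx
  obtain ⟨w, hw, x', hx'⟩ := exists_smul_eq_imv W T x
  obtain ⟨w', hw', h⟩ := exists_smul_eq_zero W T (Fintype.linearCombination A k x') (by
    rw [← relMap_imv, ← hx', LinearMap.map_smul_of_tower, LinearMap.mem_ker.1 hx, smul_zero])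
  have h1 : imv T b (w' • x') ∈ Submodule.span T (imv T b '' (LinearMap.ker (Fintype.linearCombination A k) : Set (Fin b → A))) :=
    Submodule.subset_span ⟨_, by rw [SetLike.mem_coe, LinearMap.mem_ker, map_smul]; exact h, rfl⟩
  obtain ⟨u, hu⟩ := IsLocalization.map_units T (⟨w' * w, mul_mem hw' hw⟩ : W)
  have h2 : x = (↑u⁻¹ : T) • imv T b (w' • x') := by
    rw [map_smul, ← hx', smul_smul, ← algebraMap_smul T (w' * w) x, smul_smul, ← hu, Units.inv_mul, one_smul]
  rw [h2]
  exact Submodule.smul_mem _ _ h1

end Clearing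

/-- The flat case over a basic open. -/
theorem exists_fg_ker_away {R A : Type u} [CommRing R] [CommRing A] [Algebra R A] [Algebra.FinitePresentation R A]
    {a b : ℕ} (k : Fin b → Fin a → A) (q : Ideal A) [q.IsPrime]
    (h : Module.Flat R (LocalizedModule q.primeCompl ((Fin a → A) ⧸ LinearMap.range (Fintype.linearCombination A k)))) :
    ∃ g ∉ q, (LinearMap.ker (relMap (Localization.Away g) k)).FG := by
  classical
  let N₀ : Submodule A (Fin a → A) := LinearMap.range (Fintype.linearCombination A k)
  have hN₀ : N₀.FG := by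
    show (LinearMap.range (Fintype.linearCombination A k)).FG
    rw [LinearMap.range_eq_map]; exact Module.Finite.fg_top.map _
  haveI : Module.FinitePresentation A ((Fin a → A) ⧸ N₀) :=
    Module.finitePresentation_of_surjective N₀.mkQ N₀.mkQ_surjective (by rwa [Submodule.ker_mkQ])
  obtain ⟨g, hg, hflat⟩ := FlatModel.exists_flat_nhd ((Fin a → A) ⧸ N₀) q h
  refine ⟨g, hg, ?_⟩
  let W := Submonoid.powers g
  let B := Localization.Away g
  let f := LocalizedModule.mkLinearMap W ((Fin a → A) ⧸ N₀)
  haveI : Module.Flat R (LocalizedModule W ((Fin a → A) ⧸ N₀)) := hflat W (Submonoid.mem_powers g)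
  let π : (Fin a → B) →ₗ[B] LocalizedModule W ((Fin a → A) ⧸ N₀) :=
    Fintype.linearCombination B fun i => f (N₀.mkQ (Pi.single i 1))
  have hπ : ∀ x : Fin a → A, π (imv B a x) = f (N₀.mkQ x) := by
    intro x
    conv_rhs => rw [pi_eq_sum_univ' x]
    simp only [π, Fintype.linearCombination_apply, map_sum, map_smul, imv, LinearMap.compLeft_apply,
      Function.comp_apply, Algebra.linearMap_apply, algebraMap_smul]
  have hπs : Function.Surjective π := fun z => by
    obtain ⟨⟨c, w⟩, hcw⟩ := IsLocalizedModule.surj W f z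
    obtain ⟨x, rfl⟩ := N₀.mkQ_surjective c
    obtain ⟨u, hu⟩ := IsLocalization.map_units B w
    refine ⟨(↑u⁻¹ : B) • imv B a x, ?_⟩
    rw [map_smul, hπ, ← hcw, Submonoid.smul_def, ← algebraMap_smul B (w : A) z, smul_smul, ← hu, Units.inv_mul, one_smul]
  have hker : LinearMap.ker π = LinearMap.range (relMap B k) := by
    ext x
    rw [LinearMap.mem_ker, mem_range_relMap_iff W B k]
    constructor
    · intro hx
      obtain ⟨w, hw, x', hx'⟩ := exists_smul_eq_imv W B x
      have h0 : f (N₀.mkQ x') = 0 := by rw [← hπ, ← hx', LinearMap.map_smul_of_tower, hx, smul_zero]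
      obtain ⟨w', hw'⟩ := (IsLocalizedModule.eq_zero_iff W f).1 h0
      refine ⟨(w' : A) * w, mul_mem w'.2 hw, (w' : A) • x', ?_, by rw [mul_smul, map_smul, hx']⟩
      rw [← Submodule.Quotient.mk_eq_zero]
      exact hw'
    · rintro ⟨w, hw, x', hx', e⟩
      obtain ⟨u, hu⟩ := IsLocalization.map_units B (⟨w, hw⟩ : W)
      have h0 : π (w • x) = 0 := by
        rw [e, hπ, show N₀.mkQ x' = 0 from (Submodule.Quotient.mk_eq_zero _).2 hx', map_zero]
      rw [← algebraMap_smul B w x, map_smul, ← hu] at h0
      rw [← one_smul B (π x), ← Units.inv_mul u, mul_smul, h0, smul_zero]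
  haveI : Module.FinitePresentation B (LocalizedModule W ((Fin a → A) ⧸ N₀)) :=
    Module.finitePresentation_of_surjective π hπs (by
      rw [hker, LinearMap.range_eq_map]; exact Module.Finite.fg_top.map _)
  haveI : Algebra.FinitePresentation A B := IsLocalization.Away.finitePresentation g
  haveI : Algebra.FinitePresentation R B := Algebra.FinitePresentation.trans R A B
  haveI := FlatSyz5.fp_ker (A := R) π hπs
  let r : (Fin b → B) →ₗ[B] LinearMap.ker π := (relMap B k).codRestrict _ fun y => hker ▸ ⟨y, rfl⟩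
  have hr : Function.Surjective r := fun y => by
    obtain ⟨z, hz⟩ : (y : Fin a → B) ∈ LinearMap.range (relMap B k) := hker ▸ y.2
    exact ⟨z, Subtype.ext hz⟩
  have := Module.FinitePresentation.fg_ker r hr
  rwa [LinearMap.ker_codRestrict] at this

/-- Relations of a flat module over an essentially finitely presented local algebra are finitely presented. -/
theorem fp_ker_essFP {R S : Type u} [CommRing R] [CommRing S] [IsLocalRing S] [Algebra R S]
    (hS : CAlgX.IsEssFinitePresentation R S) {C : Type u} [AddCommGroup C] [Module S C] [Module R C]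
    [IsScalarTower R S C] [Module.FinitePresentation S C] [Module.Flat R C] {a : ℕ}
    (π : (Fin a → S) →ₗ[S] C) (hπ : Function.Surjective π) :
    Module.FinitePresentation S (LinearMap.ker π) := by
  classical
  obtain ⟨A, _, _, _, _, W, hfp, hloc⟩ := hS
  obtain ⟨b, x, hx⟩ := Submodule.fg_iff_exists_fin_generating_family.1 (Module.FinitePresentation.fg_ker π hπ)
  choose w hw k hk using fun j => exists_smul_eq_imv W S (x j)
  let β := relMap S k
  have hβ : LinearMap.range β = LinearMap.ker π := by
    rw [← hx]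
    simp only [β, relMap, Fintype.range_linearCombination]
    refine le_antisymm ?_ ?_ <;> rw [Submodule.span_le] <;> rintro _ ⟨j, rfl⟩
    · show imv S a (k j) ∈ _
      rw [← hk, ← algebraMap_smul S (w j) (x j)]
      exact Submodule.smul_mem _ _ (Submodule.subset_span ⟨j, rfl⟩)
    · obtain ⟨u, hu⟩ := IsLocalization.map_units S (⟨w j, hw j⟩ : W)
      rw [show x j = (↑u⁻¹ : S) • imv S a (k j) by
        rw [← hk, ← algebraMap_smul S (w j) (x j), smul_smul, ← hu, Units.inv_mul, one_smul]]
      exact Submodule.smul_mem _ _ (Submodule.subset_span ⟨j, rfl⟩)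
  let q : Ideal A := (IsLocalRing.maximalIdeal S).comap (algebraMap A S)
  haveI : q.IsPrime := Ideal.IsPrime.comap _
  have hWq : ∀ s ∈ W, s ∈ q.primeCompl := fun s hs =>
    IsLocalRing.notMem_maximalIdeal.2 (IsLocalization.map_units S (⟨s, hs⟩ : W))
  letI : Module A C := Module.compHom C (algebraMap A S)
  haveI : IsScalarTower A S C := IsScalarTower.of_algebraMap_smul fun r x => rfl
  haveI : IsScalarTower R A C := IsScalarTower.of_algebraMap_smul fun r x => by
    show algebraMap A S (algebraMap R A r) • x = r • x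
    rw [← IsScalarTower.algebraMap_apply, algebraMap_smul]
  let N₀ : Submodule A (Fin a → A) := LinearMap.range (Fintype.linearCombination A k)
  let θ : ((Fin a → A) ⧸ N₀) →ₗ[A] C := N₀.liftQ (π.restrictScalars A ∘ₗ imv S a) (by
    rintro _ ⟨y, rfl⟩
    show π (imv S a _) = 0
    rw [← relMap_imv, ← LinearMap.mem_ker, ← hβ]
    exact ⟨_, rfl⟩)
  haveI : IsLocalizedModule q.primeCompl θ := by
    refine ⟨fun s => ?_, fun y => ?_, fun {y z} e => ?_⟩
    · obtain ⟨u, hu⟩ := IsLocalRing.notMem_maximalIdeal.1 s.2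
      refine (Module.End.isUnit_iff _).2 (Function.bijective_iff_has_inverse.2
        ⟨fun x => (↑u⁻¹ : S) • x, fun x => ?_, fun x => ?_⟩)
      · show (↑u⁻¹ : S) • algebraMap A S (s : A) • x = x
        rw [smul_smul, ← hu, Units.inv_mul, one_smul]
      · show algebraMap A S (s : A) • (↑u⁻¹ : S) • x = x
        rw [smul_smul, ← hu, Units.mul_inv, one_smul]
    · obtain ⟨v, rfl⟩ := hπ y
      obtain ⟨s, hs, v', hv'⟩ := exists_smul_eq_imv W S v
      refine ⟨⟨N₀.mkQ v', ⟨s, hWq s hs⟩⟩, ?_⟩
      show s • π v = π (imv S a v')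
      rw [← hv', LinearMap.map_smul_of_tower]
    · obtain ⟨y, rfl⟩ := N₀.mkQ_surjective y
      obtain ⟨z, rfl⟩ := N₀.mkQ_surjective z
      have h1 : imv S a (y - z) ∈ LinearMap.range (relMap S k) := by
        rw [show relMap S k = β from rfl, hβ, LinearMap.mem_ker, map_sub, map_sub]
        exact sub_eq_zero.2 e
      obtain ⟨s, hs, hsm⟩ := smul_mem_range_of_imv_mem W S k h1
      refine ⟨⟨s, hWq s hs⟩, ?_⟩
      show s • N₀.mkQ y = s • N₀.mkQ z
      rw [← sub_eq_zero, ← smul_sub, ← map_sub, ← map_smul]
      exact (Submodule.Quotient.mk_eq_zero _).2 hsm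
  have hflat : Module.Flat R (LocalizedModule q.primeCompl ((Fin a → A) ⧸ N₀)) :=
    Module.Flat.of_linearEquiv ((IsLocalizedModule.iso q.primeCompl θ).restrictScalars R)
  obtain ⟨g, hg, hfg⟩ := exists_fg_ker_away k q hflat
  let B := Localization.Away g
  let φ : B →+* S := IsLocalization.Away.lift g (IsLocalRing.notMem_maximalIdeal.1 hg)
  letI : Algebra B S := φ.toAlgebra
  haveI : IsScalarTower A B S := IsScalarTower.of_algebraMap_eq fun r =>
    (IsLocalization.Away.lift_eq g (IsLocalRing.notMem_maximalIdeal.1 hg) r).symm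
  obtain ⟨G, hG⟩ := hfg
  let φv : (Fin b → B) →ₗ[B] (Fin b → S) := (Algebra.linearMap B S).compLeft (Fin b)
  have hφv : ∀ y : Fin b → A, φv (imv B b y) = imv S b y := fun y =>
    funext fun i => (IsScalarTower.algebraMap_apply A B S (y i)).symm
  have hkerfg : (LinearMap.ker β).FG := by
    refine ⟨G.image φv, le_antisymm ?_ ?_⟩
    · rw [Submodule.span_le, Finset.coe_image]
      rintro _ ⟨y, hy, rfl⟩
      have hy0 : relMap B k y = 0 := LinearMap.mem_ker.1 (hG.le (Submodule.subset_span hy))
      rw [SetLike.mem_coe, LinearMap.mem_ker]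
      funext i
      have h1 := congrArg (algebraMap B S) (congrFun hy0 i)
      simpa [β, relMap, imv, φv, Fintype.linearCombination_apply, Finset.sum_apply, map_sum, map_mul,
        ← IsScalarTower.algebraMap_apply, Algebra.smul_def] using h1
    · refine (ker_relMap_le W S k).trans ?_
      rw [Submodule.span_le]
      rintro _ ⟨y, hy, rfl⟩
      have hy0 : imv B b y ∈ Submodule.span B (G : Set (Fin b → B)) := by
        rw [hG, LinearMap.mem_ker, relMap_imv, LinearMap.mem_ker.1 hy, map_zero]
      rw [← hφv]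
      have h2 := Submodule.mem_map_of_mem (f := φv) hy0
      rw [Submodule.map_span, ← Finset.coe_image] at h2
      exact Submodule.span_le_restrictScalars B S _ h2
  rw [← hβ]
  exact Module.finitePresentation_of_surjective β.rangeRestrict β.surjective_rangeRestrict
    (by rwa [LinearMap.ker_rangeRestrict])

end Groth.Agent.EssFPDescent
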