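import Mathlib

/-!
# The action of `T₀ ⊗ A` on `C₀ ⊗ N`
-/

set_option autoImplicit false

universe u

open TensorProduct

noncomputable section

namespace Groth.Agent.EssFPDescent

variable {R₀ : Type u} [CommRing R₀] (T₀ : Type u) [CommRing T₀] [Algebra R₀ T₀]
  (C₀ : Type u) [AddCommGroup C₀] [Module R₀ C₀] [Module T₀ C₀] [IsScalarTower R₀ T₀ C₀]

/-- The action of `T₀ ⊗ A` on `C₀ ⊗ N` for an `A`-module `N`. -/
def ρ (A N : Type u) [CommRing A] [Algebra R₀ A] [AddCommGroup N] [Module R₀ N] [Module A N]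
    [IsScalarTower R₀ A N] : T₀ ⊗[R₀] A →ₐ[R₀] Module.End R₀ (C₀ ⊗[R₀] N) :=
  Algebra.TensorProduct.lift ((Module.End.rTensorAlgHom R₀ C₀ N).comp (Algebra.lsmul R₀ R₀ C₀ : T₀ →ₐ[R₀] Module.End R₀ C₀))
    ((Module.End.lTensorAlgHom R₀ N C₀).comp ((Algebra.lsmul R₀ R₀ N : A →ₐ[R₀] Module.End R₀ N)))
    (fun t a => LinearMap.ext fun x => by
      show ((Algebra.lsmul R₀ R₀ C₀ t).rTensor N) ((Algebra.lsmul R₀ R₀ N a).lTensor C₀ x) =
        (Algebra.lsmul R₀ R₀ N a).lTensor C₀ ((Algebra.lsmul R₀ R₀ C₀ t).rTensor N x)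
      rw [← LinearMap.comp_apply, LinearMap.rTensor_comp_lTensor, ← LinearMap.comp_apply,
        LinearMap.lTensor_comp_rTensor])

variable {A N : Type u} [CommRing A] [Algebra R₀ A] [AddCommGroup N] [Module R₀ N] [Module A N]
  [IsScalarTower R₀ A N]

@[simp] theorem ρ_tmul (t : T₀) (a : A) (c : C₀) (x : N) :
    ρ T₀ C₀ A N (t ⊗ₜ[R₀] a) (c ⊗ₜ[R₀] x) = (t • c) ⊗ₜ[R₀] (a • x) := rfl

/-- Naturality of the action. -/
theorem ρ_map {A' N' : Type u} [CommRing A'] [Algebra R₀ A'] [AddCommGroup N'] [Module R₀ N'] [Module A' N']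
    [IsScalarTower R₀ A' N'] (f : A →ₐ[R₀] A') (g : N →ₗ[R₀] N') (hg : ∀ (a : A) (x : N), g (a • x) = f a • g x)
    (s : T₀ ⊗[R₀] A) (z : C₀ ⊗[R₀] N) :
    g.lTensor C₀ (ρ T₀ C₀ A N s z) =
      ρ T₀ C₀ A' N' (Algebra.TensorProduct.map (AlgHom.id R₀ T₀) f s) (g.lTensor C₀ z) := by
  induction s using TensorProduct.induction_on with
  | zero => simp only [map_zero, LinearMap.zero_apply]
  | add x y hx hy => simp only [map_add, LinearMap.add_apply, hx, hy]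
  | tmul t a =>
    induction z using TensorProduct.induction_on with
    | zero => simp only [map_zero]
    | add x y hx hy => simp only [map_add, hx, hy]
    | tmul c x =>
      rw [ρ_tmul, LinearMap.lTensor_tmul, hg, Algebra.TensorProduct.map_tmul, LinearMap.lTensor_tmul, ρ_tmul]
      rfl

/-- The action commutes with linear maps of modules. -/
theorem ρ_linear {N' : Type u} [AddCommGroup N'] [Module R₀ N'] [Module A N'] [IsScalarTower R₀ A N']
    (g : N →ₗ[A] N') (s : T₀ ⊗[R₀] A) (z : C₀ ⊗[R₀] N) :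
    (g.restrictScalars R₀).lTensor C₀ (ρ T₀ C₀ A N s z) = ρ T₀ C₀ A N' s ((g.restrictScalars R₀).lTensor C₀ z) := by
  have := ρ_map T₀ C₀ (AlgHom.id R₀ A) (g.restrictScalars R₀) (fun a x => g.map_smul a x) s z
  rwa [Algebra.TensorProduct.map_id, AlgHom.id_apply] at this

/-- The module structure on `C₀ ⊗ N`. -/
@[reducible] def moduleAct : Module (T₀ ⊗[R₀] A) (C₀ ⊗[R₀] N) :=
  Module.compHom (C₀ ⊗[R₀] N) (ρ T₀ C₀ A N).toRingHom

/-- Finiteness of the module `C₀ ⊗ N`. -/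
theorem finite_act [Module.Finite T₀ C₀] [Module.Finite A N] :
    letI := moduleAct (R₀ := R₀) T₀ C₀ (A := A) (N := N)
    Module.Finite (T₀ ⊗[R₀] A) (C₀ ⊗[R₀] N) := by
  letI := moduleAct (R₀ := R₀) T₀ C₀ (A := A) (N := N)
  obtain ⟨G, hG⟩ := Module.Finite.fg_top (R := T₀) (M := C₀)
  obtain ⟨H, hH⟩ := Module.Finite.fg_top (R := A) (M := N)
  classical
  refine ⟨⟨(G ×ˢ H).image fun p => p.1 ⊗ₜ[R₀] p.2, eq_top_iff.2 fun x _ => ?_⟩⟩
  induction x using TensorProduct.induction_on with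
  | zero => exact zero_mem _
  | add x y hx hy => exact add_mem (hx trivial) (hy trivial)
  | tmul c n =>
    have hc : c ∈ Submodule.span T₀ (G : Set C₀) := hG ▸ Submodule.mem_top
    induction hc using Submodule.span_induction with
    | zero => rw [TensorProduct.zero_tmul]; exact zero_mem _
    | add x y _ _ hx hy => rw [TensorProduct.add_tmul]; exact add_mem (hx trivial) (hy trivial)
    | smul t x _ hx =>
      rw [show (t • x) ⊗ₜ[R₀] n = (t ⊗ₜ[R₀] (1 : A)) • (x ⊗ₜ[R₀] n) from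
        (show _ = ρ T₀ C₀ A N (t ⊗ₜ[R₀] 1) (x ⊗ₜ[R₀] n) by rw [ρ_tmul, one_smul])]
      exact Submodule.smul_mem _ _ (hx trivial)
    | mem x hx =>
      have hn : n ∈ Submodule.span A (H : Set N) := hH ▸ Submodule.mem_top
      induction hn using Submodule.span_induction with
      | zero => rw [TensorProduct.tmul_zero]; exact zero_mem _
      | add a b _ _ ha hb => rw [TensorProduct.tmul_add]; exact add_mem (ha trivial) (hb trivial)
      | smul a b _ hb =>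
        rw [show x ⊗ₜ[R₀] (a • b) = ((1 : T₀) ⊗ₜ[R₀] a) • (x ⊗ₜ[R₀] b) from
          (show _ = ρ T₀ C₀ A N (1 ⊗ₜ[R₀] a) (x ⊗ₜ[R₀] b) by rw [ρ_tmul, one_smul])]
        exact Submodule.smul_mem _ _ (hb trivial)
      | mem b hb =>
        exact Submodule.subset_span (Finset.mem_image.2 ⟨(x, b), Finset.mem_product.2 ⟨hx, hb⟩, rfl⟩)

/-- `T₀ ⊗ A` is Noetherian. -/
theorem isNoetherianRing_tensor [Algebra.FiniteType R₀ T₀] [IsNoetherianRing A] :
    IsNoetherianRing (T₀ ⊗[R₀] A) :=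
  haveI : IsNoetherianRing (A ⊗[R₀] T₀) := Algebra.FiniteType.isNoetherianRing A (A ⊗[R₀] T₀)
  isNoetherianRing_of_ringEquiv (A ⊗[R₀] T₀) (Algebra.TensorProduct.comm R₀ A T₀).toRingEquiv

/-- The submodule of elements killed by an element is stable. -/
theorem ρ_mul (s s' : T₀ ⊗[R₀] A) (z : C₀ ⊗[R₀] N) :
    ρ T₀ C₀ A N (s * s') z = ρ T₀ C₀ A N s (ρ T₀ C₀ A N s' z) := by
  rw [map_mul]; rfl

theorem ρ_comm (s s' : T₀ ⊗[R₀] A) (z : C₀ ⊗[R₀] N) :
    ρ T₀ C₀ A N s (ρ T₀ C₀ A N s' z) = ρ T₀ C₀ A N s' (ρ T₀ C₀ A N s z) := by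
  rw [← ρ_mul, ← ρ_mul, mul_comm]

/-- The inclusion of an ideal, linearly over `R₀`. -/
abbrev incl (R₀ : Type u) [CommRing R₀] {A : Type u} [CommRing A] [Algebra R₀ A] (J : Ideal A) : J →ₗ[R₀] A :=
  (Submodule.subtype J).restrictScalars R₀

/-- The elements of `C₀ ⊗ J` vanishing in `C₀ ⊗ A` are killed by `W`. -/
def Killed (J : Ideal A) (W : Submonoid (T₀ ⊗[R₀] A)) : Prop :=
  ∀ y : C₀ ⊗[R₀] J, (incl R₀ J).lTensor C₀ y = 0 → ∃ s ∈ W, ρ T₀ C₀ A J s y = 0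

end Groth.Agent.EssFPDescent
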