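import Groth.Agent.EssFPDescent.AssUniv
import Groth.Agent.S0393

/-!
# The Noetherian variant
-/

set_option autoImplicit false

universe u

open TensorProduct
attribute [local instance] Algebra.TensorProduct.rightAlgebra

noncomputable section

namespace Groth.Agent.EssFPDescent

variable {R S : Type u} [CommRing R] [CommRing S] [Algebra R S]
  (N : Type u) [AddCommGroup N] [Module S N] [Module R N] [IsScalarTower R S N]

omit N in
theorem isNoetherianRing_fiber [IsNoetherianRing S] (p : Ideal R) [p.IsPrime] : IsNoetherianRing (p.Fiber S) := by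
  refine (isNoetherianRing_iff_ideal_fg _).2 fun r => ?_
  rw [← map_includeRight_eq p r _ rfl]
  exact Ideal.FG.map (IsNoetherian.noetherian _) _

/-- The local statement without finite presentation. -/
theorem univInj_of_local_noeth {R R₁ S₁ : Type u} [CommRing R] [CommRing R₁] [CommRing S₁] [IsLocalRing R₁]
    [IsLocalRing S₁] [IsNoetherianRing S₁] [Algebra R R₁] [Algebra R₁ S₁] [Algebra R S₁] [IsScalarTower R R₁ S₁]
    [IsLocalHom (algebraMap R₁ S₁)] (W : Submonoid R) [IsLocalization W R₁]
    {N₁ : Type u} [AddCommGroup N₁] [Module S₁ N₁] [Module R₁ N₁] [Module R N₁] [IsScalarTower R₁ S₁ N₁]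
    [IsScalarTower R R₁ N₁] [IsScalarTower R S₁ N₁] [Module.Finite S₁ N₁] [Module.Flat R₁ N₁]
    (u : N₁ →ₗ[S₁] N₁)
    (h : ∀ x : N₁, u x ∈ (IsLocalRing.maximalIdeal R₁).map (algebraMap R₁ S₁) • (⊤ : Submodule S₁ N₁) →
      x ∈ (IsLocalRing.maximalIdeal R₁).map (algebraMap R₁ S₁) • (⊤ : Submodule S₁ N₁)) :
    FlatCA.UnivInj R (u.restrictScalars R) := by
  intro Q _ _
  have hinj : Function.Injective ((u.restrictScalars R₁).lTensor (IsLocalRing.ResidueField R₁)) := by
    rw [injective_iff_map_eq_zero]
    intro z hz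
    obtain ⟨n, rfl⟩ : ∃ n : N₁, (1 : R₁ ⧸ IsLocalRing.maximalIdeal R₁) ⊗ₜ[R₁] n = z :=
      TensorProduct.mk_surjective R₁ N₁ (R₁ ⧸ IsLocalRing.maximalIdeal R₁) Ideal.Quotient.mk_surjective z
    exact (S0393.one_tmul_eq_zero_iff _ n).2 (AssFiber.mem_smul_top_of_mem_pN _ N₁ (h n
      (AssFiber.smul_mem_pN _ N₁ ((S0393.one_tmul_eq_zero_iff _ (u n)).1 hz))))
  obtain ⟨hi, hflat⟩ := S0393.result (S := S₁) (u.restrictScalars R₁) hinj
  haveI : Module.Flat R (N₁ ⧸ LinearMap.range (u.restrictScalars R₁)) :=
    (Module.flat_iff_of_isLocalization R₁ W _).1 hflat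
  have hex : Function.Exact (u.restrictScalars R) ((LinearMap.range (u.restrictScalars R₁)).mkQ.restrictScalars R) :=
    fun z => Submodule.Quotient.mk_eq_zero _
  have hs : Function.Surjective ((LinearMap.range (u.restrictScalars R₁)).mkQ.restrictScalars R) :=
    fun z => Submodule.Quotient.mk_surjective _ z
  exact W4Lib.lTensor_injective_of_flat_quotient (f := u.restrictScalars R)
    (g := (LinearMap.range (u.restrictScalars R₁)).mkQ.restrictScalars R) hi hex hs Q

/-- Noetherian version of `univInj_localized`. -/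
theorem univInj_localized_noeth [IsNoetherianRing S] [Module.Finite S N] [Module.Flat R N]
    (p : Ideal R) [p.IsPrime] (q : Ideal S) [q.IsPrime] [q.LiesOver p] (s : S)
    (hs : ∀ y : FlatCA.fiberMod p S N, s • y = 0 → ∃ t ∉ q, t • y = 0) :
    FlatCA.UnivInj R ((LinearMap.lsmul S (LocalizedModule q.primeCompl N) s).restrictScalars R) := by
  classical
  have hpq : p = q.comap (algebraMap R S) := Ideal.LiesOver.over
  let R₁ := Localization.AtPrime p
  let S₁ := Localization.AtPrime q
  let N₁ := LocalizedModule q.primeCompl N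
  letI : Algebra R₁ S₁ := (Localization.localRingHom p q (algebraMap R S) hpq).toAlgebra
  haveI : IsScalarTower R R₁ S₁ := IsScalarTower.of_algebraMap_eq fun x => by
    rw [IsScalarTower.algebraMap_apply R S S₁]
    exact (Localization.localRingHom_to_map p q (algebraMap R S) hpq x).symm
  haveI : IsLocalHom (algebraMap R₁ S₁) := Localization.isLocalHom_localRingHom p q (algebraMap R S) hpq
  letI : Module R₁ N₁ := Module.compHom N₁ (algebraMap R₁ S₁)
  haveI : IsScalarTower R₁ S₁ N₁ := IsScalarTower.of_algebraMap_smul fun r x => rfl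
  haveI : IsScalarTower R R₁ N₁ := IsScalarTower.of_algebraMap_smul fun r x => by
    show algebraMap R₁ S₁ (algebraMap R R₁ r) • x = r • x
    rw [← IsScalarTower.algebraMap_apply, IsScalarTower.algebraMap_apply R S S₁, algebraMap_smul, algebraMap_smul]
  haveI : Module.Flat R N₁ := flat_localizedModule N q.primeCompl
  haveI : Module.Flat R₁ N₁ := (Module.flat_iff_of_isLocalization R₁ p.primeCompl N₁).2 inferInstance
  haveI : IsNoetherianRing S₁ := IsLocalization.isNoetherianRing q.primeCompl S₁ inferInstance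
  have hmap : (IsLocalRing.maximalIdeal R₁).map (algebraMap R₁ S₁) = p.map (algebraMap R S₁) := by
    rw [← Localization.AtPrime.map_eq_maximalIdeal, Ideal.map_map, ← IsScalarTower.algebraMap_eq]
  have key := univInj_of_local_noeth (R := R) (R₁ := R₁) (S₁ := S₁) (N₁ := N₁) p.primeCompl
    (LinearMap.lsmul S₁ N₁ (algebraMap S S₁ s))
    (fun x hx => by
      rw [hmap] at hx ⊢
      rw [LinearMap.lsmul_apply, algebraMap_smul] at hx
      exact mem_of_smul_mem N p q s hs hx)
  rw [show (LinearMap.lsmul S N₁ s).restrictScalars R = (LinearMap.lsmul S₁ N₁ (algebraMap S S₁ s)).restrictScalars R from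
    LinearMap.ext fun x => (algebraMap_smul S₁ s x).symm]
  exact key

/-- A minimal prime over the annihilator of an element of `N ⊗ Q` is associated to a fibre: Noetherian version. -/
theorem exists_ass_fiber_noeth [IsNoetherianRing S] [Module.Finite S N] [Module.Flat R N]
    (Q : Type u) [AddCommGroup Q] [Module R Q] (z : N ⊗[R] Q) (p : Ideal R) [p.IsPrime] (q : Ideal S) [q.IsPrime]
    [q.LiesOver p] (hq : q ∈ (Submodule.span S {z}).annihilator.minimalPrimes) :
    ∃ r ∈ associatedPrimes (p.Fiber S) (FlatCA.fiberMod p S N),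
      r.comap (Algebra.TensorProduct.includeRight (R := R) (A := p.ResidueField) (B := S)).toRingHom = q :=
  haveI := isNoetherianRing_fiber (S := S) p
  exists_ass_fiber_of N Q z p q (fun s hs => univInj_localized_noeth N p q s hs) hq

end Groth.Agent.EssFPDescent
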