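import Mathlib

/-!
# Annihilators and flat algebras
-/

set_option autoImplicit false

universe u

open TensorProduct

namespace Groth.Agent.EssFPDescent

/-- If `x` dies in a flat base change, its annihilator generates the unit ideal there. -/
theorem map_annihilator_eq_top {S S' : Type u} [CommRing S] [CommRing S'] [Algebra S S'] [Module.Flat S S']
    {X : Type u} [AddCommGroup X] [Module S X] (x : X) (hx : (1 : S') ⊗ₜ[S] x = 0) :
    (Submodule.span S {x}).annihilator.map (algebraMap S S') = ⊤ := by
  let I := (Submodule.span S {x}).annihilator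
  have hI : ∀ s, s ∈ I ↔ s • x = 0 := fun s => by
    rw [Submodule.mem_annihilator]
    refine ⟨fun h => h x (Submodule.mem_span_singleton_self x), fun h w hw => ?_⟩
    obtain ⟨c, rfl⟩ := Submodule.mem_span_singleton.1 hw
    rw [smul_comm, h, smul_zero]
  let f : S ⧸ I →ₗ[S] X := I.liftQ (LinearMap.toSpanSingleton S X x) fun s hs => (hI s).1 hs
  have hf : Function.Injective f := by
    rw [← LinearMap.ker_eq_bot, eq_bot_iff]
    intro y hy
    obtain ⟨s, rfl⟩ := Submodule.Quotient.mk_surjective _ y
    exact (Submodule.mem_bot S).2 ((Submodule.Quotient.mk_eq_zero I).2 ((hI s).2 hy))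
  have h1 : (1 : S') ⊗ₜ[S] (Submodule.Quotient.mk 1 : S ⧸ I) = 0 := by
    apply Module.Flat.lTensor_preserves_injective_linearMap (M := S') f hf
    rw [map_zero, LinearMap.lTensor_tmul]
    show (1 : S') ⊗ₜ[S] ((1 : S) • x) = 0
    rw [one_smul]
    exact hx
  have h2 := congrArg (TensorProduct.tensorQuotEquivQuotSMul S' I) h1
  rw [map_zero, Ideal.Quotient.mk_eq_mk, TensorProduct.tensorQuotEquivQuotSMul_tmul_mk, one_smul, Submodule.Quotient.mk_eq_zero] at h2
  rw [Ideal.eq_top_iff_one]
  refine Submodule.smul_induction_on h2 (fun a ha y _ => ?_) fun _ _ ha hb => add_mem ha hb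
  rw [Algebra.smul_def]
  exact Ideal.mul_mem_right _ _ (Ideal.mem_map_of_mem _ ha)

end Groth.Agent.EssFPDescent
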