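import Groth.Agent.EssFPDescent.Act

/-!
# The kernel of `C₀ ⊗ p₂ → C₀ ⊗ A₂` comes from a stage with the same residue characteristic data
-/

set_option autoImplicit false

universe u

open TensorProduct

noncomputable section

namespace Groth.Agent.EssFPDescent

variable {R₀ : Type u} [CommRing R₀] (C₀ : Type u) [AddCommGroup C₀] [Module R₀ C₀]

/-- Injections of modules killed by a maximal ideal stay injective after tensoring over any base. -/
theorem lTensor_injective_of_torsion {A₁ : Type u} [CommRing A₁] [Algebra R₀ A₁] (p₁ : Ideal A₁) [p₁.IsMaximal]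
    {V W : Type u} [AddCommGroup V] [Module R₀ V] [Module A₁ V] [IsScalarTower R₀ A₁ V]
    [AddCommGroup W] [Module R₀ W] [Module A₁ W] [IsScalarTower R₀ A₁ W]
    (f : V →ₗ[A₁] W) (hf : Function.Injective f) (hV : Module.IsTorsionBySet A₁ V p₁)
    (hW : Module.IsTorsionBySet A₁ W p₁) : Function.Injective ((f.restrictScalars R₀).lTensor C₀) := by
  letI := Ideal.Quotient.field p₁
  letI := hV.module
  letI := hW.module
  haveI : IsScalarTower A₁ (A₁ ⧸ p₁) V := hV.isScalarTower
  haveI : IsScalarTower A₁ (A₁ ⧸ p₁) W := hW.isScalarTower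
  let f' : V →ₗ[A₁ ⧸ p₁] W :=
    { toFun := f
      map_add' := f.map_add
      map_smul' := fun c x => by
        obtain ⟨c, rfl⟩ := Ideal.Quotient.mk_surjective c
        exact f.map_smul c x }
  obtain ⟨g, hg⟩ := f'.exists_leftInverse_of_injective (LinearMap.ker_eq_bot.2 hf)
  let g₀ : W →ₗ[R₀] V := (g.restrictScalars A₁).restrictScalars R₀
  refine Function.LeftInverse.injective (g := g₀.lTensor C₀) fun x => ?_
  rw [← LinearMap.comp_apply, ← LinearMap.lTensor_comp,
    show g₀ ∘ₗ f.restrictScalars R₀ = LinearMap.id from LinearMap.ext fun v => LinearMap.congr_fun hg v,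
    LinearMap.lTensor_id, LinearMap.id_apply]

section Abstract

variable {A₁ : Type u} [CommRing A₁] [Algebra R₀ A₁] (p₁ : Ideal A₁) [p₁.IsMaximal]
  {G P W : Type u} [AddCommGroup G] [Module R₀ G] [Module A₁ G] [IsScalarTower R₀ A₁ G]
  [AddCommGroup P] [Module R₀ P] [Module A₁ P] [IsScalarTower R₀ A₁ P]
  [AddCommGroup W] [Module R₀ W] [Module A₁ W] [IsScalarTower R₀ A₁ W]

/-- An element killed in `C₀ ⊗ W` lifts along `Φ`. -/
theorem exists_preimage (Φ : G →ₗ[A₁] P) (ι : P →ₗ[A₁] W) (hι : Function.Injective ι)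
    (hP : ∀ π ∈ p₁, ∀ x : P, π • x ∈ LinearMap.range Φ)
    (hW : ∀ π ∈ p₁, ∀ x : W, π • x ∈ (LinearMap.range Φ).map ι)
    (y : C₀ ⊗[R₀] P) (hy : (ι.restrictScalars R₀).lTensor C₀ y = 0) :
    ∃ Y, (Φ.restrictScalars R₀).lTensor C₀ Y = y := by
  have htors₁ : Module.IsTorsionBySet A₁ (P ⧸ LinearMap.range Φ) p₁ := by
    rintro x ⟨π, hπ⟩
    induction x using Submodule.Quotient.induction_on with
    | _ x => exact (Submodule.Quotient.mk_smul _ π x).symm.trans ((Submodule.Quotient.mk_eq_zero _).2 (hP π hπ x))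
  have htors₂ : Module.IsTorsionBySet A₁ (W ⧸ (LinearMap.range Φ).map ι) p₁ := by
    rintro x ⟨π, hπ⟩
    induction x using Submodule.Quotient.induction_on with
    | _ x => exact (Submodule.Quotient.mk_smul _ π x).symm.trans ((Submodule.Quotient.mk_eq_zero _).2 (hW π hπ x))
  let q : (P ⧸ LinearMap.range Φ) →ₗ[A₁] (W ⧸ (LinearMap.range Φ).map ι) :=
    Submodule.mapQ _ _ ι (Submodule.map_le_iff_le_comap.1 le_rfl)
  have hq : Function.Injective q := by
    rw [injective_iff_map_eq_zero]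
    intro x hx
    induction x using Submodule.Quotient.induction_on with
    | _ x =>
      obtain ⟨x', hx', he⟩ := (Submodule.Quotient.mk_eq_zero _).1 hx
      rw [Submodule.Quotient.mk_eq_zero, ← hι he]
      exact hx'
  refine (lTensor_exact C₀ (f := Φ.restrictScalars R₀) (g := (LinearMap.range Φ).mkQ.restrictScalars R₀)
    (LinearMap.exact_map_mkQ_range Φ) (Submodule.mkQ_surjective _) y).1 ?_
  apply lTensor_injective_of_torsion C₀ p₁ q hq htors₁ htors₂
  rw [map_zero, ← LinearMap.comp_apply, ← LinearMap.lTensor_comp]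
  have : q.restrictScalars R₀ ∘ₗ (LinearMap.range Φ).mkQ.restrictScalars R₀ =
      (((LinearMap.range Φ).map ι).mkQ.restrictScalars R₀) ∘ₗ ι.restrictScalars R₀ := LinearMap.ext fun _ => rfl
  rw [this, LinearMap.lTensor_comp, LinearMap.comp_apply, hy, map_zero]

variable {F : Type u} [AddCommGroup F] [Module R₀ F] [Module A₁ F] [IsScalarTower R₀ A₁ F]

/-- A cycle corrected into the kernel of `J`. -/
theorem exists_correction (J : G →ₗ[A₁] F) {K : Type u} [AddCommGroup K] [Module R₀ K] [Module A₁ K]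
    [IsScalarTower R₀ A₁ K] (i : K →ₗ[A₁] F) (hi : Function.Injective i) (L : F →ₗ[A₁] W)
    (hex : Function.Exact i L) (hL : Function.Surjective L)
    (hF : ∀ π ∈ p₁, ∀ x : F, π • x ∈ LinearMap.range J)
    (Y : C₀ ⊗[R₀] G) (hY : (L.restrictScalars R₀).lTensor C₀ ((J.restrictScalars R₀).lTensor C₀ Y) = 0)
    (Φ : G →ₗ[A₁] P) (hΦ : ∀ g, L (J g) = 0 → Φ g = 0) :
    ∃ Y', (J.restrictScalars R₀).lTensor C₀ Y' = 0 ∧
      (Φ.restrictScalars R₀).lTensor C₀ Y' = (Φ.restrictScalars R₀).lTensor C₀ Y := by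
  obtain ⟨w, hw⟩ := (lTensor_exact C₀ (f := i.restrictScalars R₀) (g := L.restrictScalars R₀) hex hL _).1 hY
  have htors₃ : Module.IsTorsionBySet A₁ (F ⧸ LinearMap.range J) p₁ := by
    rintro x ⟨π, hπ⟩
    induction x using Submodule.Quotient.induction_on with
    | _ x => exact (Submodule.Quotient.mk_smul _ π x).symm.trans ((Submodule.Quotient.mk_eq_zero _).2 (hF π hπ x))
  have htors₄ : Module.IsTorsionBySet A₁ (K ⧸ (LinearMap.range J).comap i) p₁ := by
    rintro x ⟨π, hπ⟩
    induction x using Submodule.Quotient.induction_on with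
    | _ x =>
      refine (Submodule.Quotient.mk_smul _ π x).symm.trans ((Submodule.Quotient.mk_eq_zero _).2 ?_)
      rw [Submodule.mem_comap, map_smul]
      exact hF π hπ (i x)
  let q' : (K ⧸ (LinearMap.range J).comap i) →ₗ[A₁] (F ⧸ LinearMap.range J) := Submodule.mapQ _ _ i le_rfl
  have hq' : Function.Injective q' := by
    rw [injective_iff_map_eq_zero]
    intro x hx
    induction x using Submodule.Quotient.induction_on with
    | _ x =>
      rw [Submodule.Quotient.mk_eq_zero]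
      exact ((Submodule.Quotient.mk_eq_zero (LinearMap.range J)).1 hx :)
  let D : Submodule A₁ G := (LinearMap.range i).comap J
  let ei := LinearEquiv.ofInjective i hi
  let J' : D →ₗ[A₁] K := ei.symm.toLinearMap ∘ₗ J.restrict fun g hg => hg
  have hJ' : ∀ g : D, i (J' g) = J g := fun g => congrArg Subtype.val (ei.apply_symm_apply ⟨J g, g.2⟩)
  have hrange : LinearMap.range J' = (LinearMap.range J).comap i := by
    ext x
    constructor
    · rintro ⟨g, rfl⟩; exact ⟨g, (hJ' g).symm⟩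
    · rintro ⟨g, hg⟩
      exact ⟨⟨g, x, hg.symm⟩, hi ((hJ' _).trans hg)⟩
  have hex' : Function.Exact J' ((LinearMap.range J).comap i).mkQ := by
    rw [LinearMap.exact_iff, Submodule.ker_mkQ, hrange]
  have hw0 : (((LinearMap.range J).comap i).mkQ.restrictScalars R₀).lTensor C₀ w = 0 := by
    apply lTensor_injective_of_torsion C₀ p₁ q' hq' htors₄ htors₃
    rw [map_zero, ← LinearMap.comp_apply, ← LinearMap.lTensor_comp]
    have : q'.restrictScalars R₀ ∘ₗ ((LinearMap.range J).comap i).mkQ.restrictScalars R₀ =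
        (LinearMap.range J).mkQ.restrictScalars R₀ ∘ₗ i.restrictScalars R₀ := LinearMap.ext fun _ => rfl
    rw [this, LinearMap.lTensor_comp, LinearMap.comp_apply, hw, ← LinearMap.comp_apply, ← LinearMap.lTensor_comp,
      show (LinearMap.range J).mkQ.restrictScalars R₀ ∘ₗ J.restrictScalars R₀ = 0 from LinearMap.ext fun g =>
        (Submodule.Quotient.mk_eq_zero _).2 ⟨g, rfl⟩, LinearMap.lTensor_zero, LinearMap.zero_apply]
  obtain ⟨v, hv⟩ := (lTensor_exact C₀ (f := J'.restrictScalars R₀)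
    (g := ((LinearMap.range J).comap i).mkQ.restrictScalars R₀) hex' (Submodule.mkQ_surjective _) w).1 hw0
  refine ⟨Y - (D.subtype.restrictScalars R₀).lTensor C₀ v, ?_, ?_⟩
  · rw [map_sub, ← hw, ← hv, ← LinearMap.comp_apply, ← LinearMap.lTensor_comp, ← LinearMap.comp_apply,
      ← LinearMap.lTensor_comp, sub_eq_zero]
    exact LinearMap.congr_fun (congrArg (LinearMap.lTensor C₀) (LinearMap.ext fun g => hJ' g)) v
  · have hΦD : Φ.restrictScalars R₀ ∘ₗ D.subtype.restrictScalars R₀ = 0 := LinearMap.ext fun g => by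
      obtain ⟨x, hx⟩ := (g.2 : J g ∈ LinearMap.range i)
      exact hΦ g (by rw [← hx]; exact hex.apply_apply_eq_zero x)
    rw [map_sub, ← LinearMap.comp_apply, ← LinearMap.lTensor_comp, hΦD, LinearMap.lTensor_zero,
      LinearMap.zero_apply, sub_zero]

end Abstract

variable {A₁ A₂ : Type u} [CommRing A₁] [CommRing A₂] [Algebra R₀ A₁] [Algebra R₀ A₂] [Algebra A₁ A₂]
  [IsScalarTower R₀ A₁ A₂] (p₁ : Ideal A₁) (p₂ : Ideal A₂) (hp : p₁.map (algebraMap A₁ A₂) ≤ p₂)

/-- `x ↦ a x`. -/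
def mulTo (a : A₂) : p₁ →ₗ[A₁] p₂ where
  toFun x := ⟨a * algebraMap A₁ A₂ x, p₂.mul_mem_left a (hp (Ideal.mem_map_of_mem _ x.2))⟩
  map_add' x y := Subtype.ext (by simp [mul_add])
  map_smul' c x := Subtype.ext (by simp [Algebra.smul_def]; ring)

/-- The kernel at `A₂` is generated by the images of the kernel at `A₁`. -/
theorem ker_le_span [p₁.IsMaximal] (y : C₀ ⊗[R₀] p₂) (hy : (incl R₀ p₂).lTensor C₀ y = 0) :
    y ∈ Submodule.span R₀ {w | ∃ (a : A₂) (z : C₀ ⊗[R₀] p₁), (incl R₀ p₁).lTensor C₀ z = 0 ∧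
      ((mulTo p₁ p₂ hp a).restrictScalars R₀).lTensor C₀ z = w} := by
  classical
  let Φ : (A₂ →₀ p₁) →ₗ[A₁] p₂ := Finsupp.lsum A₁ fun a => mulTo p₁ p₂ hp a
  let ι : p₂ →ₗ[A₁] A₂ := (Submodule.subtype p₂).restrictScalars A₁
  let J : (A₂ →₀ p₁) →ₗ[A₁] (A₂ →₀ A₁) := Finsupp.mapRange.linearMap p₁.subtype
  let L : (A₂ →₀ A₁) →ₗ[A₁] A₂ := Finsupp.linearCombination A₁ id
  have hJL : ∀ g, L (J g) = ι (Φ g) := by
    intro g
    induction g using Finsupp.induction_linear with
    | zero => simp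
    | add g h hg hh => simp only [map_add, hg, hh]
    | single a x => simp [L, J, ι, Φ, mulTo, Algebra.smul_def, mul_comm]
  have hP : ∀ π ∈ p₁, ∀ x : p₂, π • x ∈ LinearMap.range Φ := fun π hπ x =>
    ⟨Finsupp.single (x : A₂) ⟨π, hπ⟩, Subtype.ext (by simp [Φ, mulTo, Algebra.smul_def, mul_comm])⟩
  have hW : ∀ π ∈ p₁, ∀ x : A₂, π • x ∈ (LinearMap.range Φ).map ι := fun π hπ x =>
    ⟨_, ⟨Finsupp.single x ⟨π, hπ⟩, rfl⟩, by simp [Φ, ι, mulTo, Algebra.smul_def, mul_comm]⟩
  obtain ⟨Y, hY⟩ := exists_preimage C₀ p₁ Φ ι Subtype.val_injective hP hW y hy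
  have hF : ∀ π ∈ p₁, ∀ x : A₂ →₀ A₁, π • x ∈ LinearMap.range J := fun π hπ x =>
    ⟨x.mapRange (fun c => c • (⟨π, hπ⟩ : p₁)) (zero_smul _ _), by ext a; simp [J, mul_comm]⟩
  have hY0 : (L.restrictScalars R₀).lTensor C₀ ((J.restrictScalars R₀).lTensor C₀ Y) = 0 := by
    rw [← LinearMap.comp_apply, ← LinearMap.lTensor_comp,
      show L.restrictScalars R₀ ∘ₗ J.restrictScalars R₀ = incl R₀ p₂ ∘ₗ Φ.restrictScalars R₀ from
        LinearMap.ext fun g => hJL g,
      LinearMap.lTensor_comp, LinearMap.comp_apply, hY, hy]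
  obtain ⟨Y', hJY, hΦY⟩ := exists_correction C₀ p₁ J (K := ↥(LinearMap.ker L)) (LinearMap.ker L).subtype
    (Submodule.injective_subtype _) L (LinearMap.exact_subtype_ker_map L) (fun a => ⟨Finsupp.single a 1, by simp [L]⟩)
    hF Y hY0 Φ (fun g hg => Subtype.ext ((hJL g).symm.trans hg))
  rw [hY] at hΦY
  -- components
  let e := TensorProduct.finsuppRight R₀ R₀ C₀ p₁ A₂
  let e' := TensorProduct.finsuppRight R₀ R₀ C₀ A₁ A₂
  have hcomp : ∀ (Z : C₀ ⊗[R₀] (A₂ →₀ p₁)) (a : A₂),
      e' ((J.restrictScalars R₀).lTensor C₀ Z) a = (incl R₀ p₁).lTensor C₀ (e Z a) := by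
    intro Z a
    induction Z using TensorProduct.induction_on with
    | zero => simp
    | add x y hx hy => simp only [map_add, Finsupp.add_apply, hx, hy]
    | tmul c g => simp [e, e', J]
  have hsum : ∀ Z : C₀ ⊗[R₀] (A₂ →₀ p₁), (Φ.restrictScalars R₀).lTensor C₀ Z =
      (e Z).sum fun a z => ((mulTo p₁ p₂ hp a).restrictScalars R₀).lTensor C₀ z := by
    intro Z
    induction Z using TensorProduct.induction_on with
    | zero => simp
    | add x y hx hy => rw [map_add, map_add, hx, hy, Finsupp.sum_add_index' (by simp) (by simp)]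
    | tmul c g =>
      induction g using Finsupp.induction_linear with
      | zero => simp
      | add g h hg hh => rw [TensorProduct.tmul_add, map_add, map_add, hg, hh, Finsupp.sum_add_index' (by simp) (by simp)]
      | single a x => simp [e, Φ, TensorProduct.finsuppRight_apply_tmul]
  rw [← hΦY, hsum]
  refine Submodule.sum_mem _ fun a _ => Submodule.subset_span ⟨a, e Y' a, ?_, rfl⟩
  rw [← hcomp, hJY, map_zero]
  rfl

end Groth.Agent.EssFPDescent
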