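import Mathlib

/-!
# Injectivity of `IS ⊗ M → M`
-/

universe u

open TensorProduct

namespace Groth.Agent.EssFPDescent

/-- If `I ⊗ M → M` is injective over `R` then `IS ⊗ M → M` is injective over `S`. -/
theorem rTensor_map_injective_of_injective {R S M : Type u} [CommRing R] [CommRing S] [Algebra R S]
    [AddCommGroup M] [Module S M] [Module R M] [IsScalarTower R S M] (I : Ideal R) (hinj : Function.Injective (I.subtype.rTensor M)) :
    Function.Injective ((I.map (algebraMap R S)).subtype.rTensor M) := by
  set K := I.map (algebraMap R S)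
  let ι : I →ₗ[R] K :=
    { toFun := fun a => ⟨algebraMap R S a, Ideal.mem_map_of_mem _ a.2⟩
      map_add' := fun a b => by ext; simp
      map_smul' := fun r a => by ext; simp [Algebra.smul_def] }
  let φ : ↥I ⊗[R] M →ₗ[R] ↥K ⊗[S] M :=
    TensorProduct.lift (LinearMap.mk₂ R (fun a m => ι a ⊗ₜ[S] m)
      (fun a b m => by simp [add_tmul])
      (fun r a m => by simp [smul_tmul'])
      (fun a m n => by simp [tmul_add])
      (fun r a m => by simp [tmul_smul]))
  -- the range of `φ` is stable under `S` and contains every pure tensor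
  have hφS : ∀ (s : S) (x : ↥I ⊗[R] M), s • φ x ∈ LinearMap.range φ := by
    intro s x
    induction x using TensorProduct.induction_on with
    | zero => simp
    | add x y hx hy => rw [map_add, smul_add]; exact add_mem hx hy
    | tmul a m => exact ⟨a ⊗ₜ (s • m), by simp [φ]⟩
  have hK : ∀ z ∈ K, ∀ hz : z ∈ K, ∀ m : M, (⟨z, hz⟩ : K) ⊗ₜ[S] m ∈ LinearMap.range φ := by
    intro z hz
    refine Submodule.span_induction (p := fun z _ => ∀ hz : z ∈ K, ∀ m : M,
      (⟨z, hz⟩ : K) ⊗ₜ[S] m ∈ LinearMap.range φ) ?_ ?_ ?_ ?_ hz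
    · rintro _ ⟨a, ha, rfl⟩ hz m
      exact ⟨(⟨a, ha⟩ : I) ⊗ₜ m, by simp [φ, ι]⟩
    · intro hz m
      have : (⟨0, hz⟩ : K) = 0 := rfl
      simp [this]
    · intro p q hp hq hp' hq' hz m
      have : (⟨p + q, hz⟩ : K) = ⟨p, hp⟩ + ⟨q, hq⟩ := rfl
      rw [this, add_tmul]
      exact add_mem (hp' hp m) (hq' hq m)
    · intro s p hp hp' hz m
      have : (⟨s • p, hz⟩ : K) = s • (⟨p, hp⟩ : K) := rfl
      obtain ⟨x, hx⟩ := hp' hp m
      rw [this, ← smul_tmul', ← hx]
      exact hφS s x
  have hφ : Function.Surjective φ := by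
    rw [← LinearMap.range_eq_top, eq_top_iff]
    rintro y -
    induction y using TensorProduct.induction_on with
    | zero => simp
    | add y z hy hz => exact add_mem hy hz
    | tmul z m => exact hK z.1 z.2 z.2 m
  have key : ∀ x, TensorProduct.lid S M (K.subtype.rTensor M (φ x)) =
      TensorProduct.lid R M (I.subtype.rTensor M x) := by
    intro x
    induction x using TensorProduct.induction_on with
    | zero => simp
    | add x y hx hy => simp only [map_add, hx, hy]
    | tmul a m => simp [φ, ι]
  intro x y hxy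
  obtain ⟨x, rfl⟩ := hφ x
  obtain ⟨y, rfl⟩ := hφ y
  have : TensorProduct.lid R M (I.subtype.rTensor M x) = TensorProduct.lid R M (I.subtype.rTensor M y) := by
    rw [← key, ← key, hxy]
  exact congrArg φ (hinj ((TensorProduct.lid R M).injective this))

end Groth.Agent.EssFPDescent
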